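import Cfsg.Agent.Lib.Helper14.S2276.Window

/-! # S2276 farm, piece [K1]: the certificate for case A.

`y_i = ρ^i y`, the orbit of `y` has odd size `b ≥ 5`, `e = (y_0 y_2)(y_1 y_3)`.
`ρ^i e ρ^-i = (y_i y_{i+2})(y_{i+1} y_{i+3})`; `c = e * (ρ e ρ⁻¹) = (y_0 y_2)(y_2 y_4)`;
`c' = ρ^4 c ρ^-4 = (y_4 y_6)(y_6 y_8)`; `y_0, y_2, y_4, y_6, y_8` are distinct as `b` is odd `≥ 5`
(`pow_apply_eq_iff`); conclude with `not_solvable_two_three_cycles`. -/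

set_option autoImplicit false

namespace Cfsg.Agent.Lib.Helper14.S2276

open Equiv Equiv.Perm

variable {α : Type*} [Fintype α] [DecidableEq α]

set_option linter.unusedSectionVars false

namespace Helper29

theorem pow_apply_pow (ρ : Perm α) (y : α) (i j : ℕ) : (ρ ^ i) ((ρ ^ j) y) = (ρ ^ (i + j)) y := by
  rw [← Perm.mul_apply, ← pow_add]

theorem apply_pow (ρ : Perm α) (y : α) (j : ℕ) : ρ ((ρ ^ j) y) = (ρ ^ (j + 1)) y := by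
  rw [pow_succ', Perm.mul_apply]

theorem conj_swap_pow (ρ : Perm α) (y : α) (k i j : ℕ) :
    ρ ^ k * swap ((ρ ^ i) y) ((ρ ^ j) y) * (ρ ^ k)⁻¹
      = swap ((ρ ^ (k + i)) y) ((ρ ^ (k + j)) y) := by
  rw [← Equiv.swap_apply_apply, pow_apply_pow, pow_apply_pow]

/-- distinctness of the even-indexed points -/
theorem even_pts_ne (ρ : Perm α) (y : α) (hodd : Odd (mp ρ y)) (h5 : 5 ≤ mp ρ y) (i j : ℕ)
    (hi : i < 5) (hj : j < 5) (hij : i ≠ j) : (ρ ^ (2 * i)) y ≠ (ρ ^ (2 * j)) y := by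
  intro h
  rw [pow_apply_eq_iff] at h
  have hcop : Nat.Coprime 2 (mp ρ y) := Nat.coprime_two_left.mpr hodd
  have h2 : i ≡ j [MOD mp ρ y] := Nat.ModEq.cancel_left_of_coprime (by
    rw [Nat.gcd_comm]; exact hcop) h
  have h3 : i % mp ρ y = j % mp ρ y := h2
  rw [Nat.mod_eq_of_lt (by omega), Nat.mod_eq_of_lt (by omega)] at h3
  exact hij h3

end Helper29

open Helper29 in
theorem cert_A1 (ρ : Perm α) (y : α) (hodd : Odd (mp ρ y)) (h5 : 5 ≤ mp ρ y) :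
    ¬ Group.IsSolvable (Subgroup.closure
      ({ρ, swap y ((ρ ^ 2) y) * swap (ρ y) ((ρ ^ 3) y)} : Set (Perm α))) := by
  set e : Perm α := swap y ((ρ ^ 2) y) * swap (ρ y) ((ρ ^ 3) y) with he
  set H : Subgroup (Perm α) := Subgroup.closure ({ρ, e} : Set (Perm α)) with hH
  have hρ : ρ ∈ H := Subgroup.subset_closure (by simp)
  have heH : e ∈ H := Subgroup.subset_closure (by simp)
  -- rewrite e with powers
  have he' : e = swap ((ρ ^ 0) y) ((ρ ^ 2) y) * swap ((ρ ^ 1) y) ((ρ ^ 3) y) := by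
    rw [he, pow_zero, pow_one]; rfl
  -- ρ e ρ⁻¹
  have h1 : ρ ^ 1 * e * (ρ ^ 1)⁻¹
      = swap ((ρ ^ 1) y) ((ρ ^ 3) y) * swap ((ρ ^ 2) y) ((ρ ^ 4) y) := by
    rw [he']
    have : ρ ^ 1 * (swap ((ρ ^ 0) y) ((ρ ^ 2) y) * swap ((ρ ^ 1) y) ((ρ ^ 3) y)) * (ρ ^ 1)⁻¹
        = (ρ ^ 1 * swap ((ρ ^ 0) y) ((ρ ^ 2) y) * (ρ ^ 1)⁻¹) *
          (ρ ^ 1 * swap ((ρ ^ 1) y) ((ρ ^ 3) y) * (ρ ^ 1)⁻¹) := by group
    rw [this, conj_swap_pow, conj_swap_pow]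
  -- c
  have hc : e * (ρ ^ 1 * e * (ρ ^ 1)⁻¹)
      = swap ((ρ ^ 0) y) ((ρ ^ 2) y) * swap ((ρ ^ 2) y) ((ρ ^ 4) y) := by
    rw [h1, he', mul_assoc, Equiv.swap_mul_self_mul]
  have hcH : swap ((ρ ^ 0) y) ((ρ ^ 2) y) * swap ((ρ ^ 2) y) ((ρ ^ 4) y) ∈ H := by
    rw [← hc]
    exact H.mul_mem heH (H.mul_mem (H.mul_mem (H.pow_mem hρ 1) heH) (H.inv_mem (H.pow_mem hρ 1)))
  -- c'
  have hc' : ρ ^ 4 * (swap ((ρ ^ 0) y) ((ρ ^ 2) y) * swap ((ρ ^ 2) y) ((ρ ^ 4) y)) * (ρ ^ 4)⁻¹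
      = swap ((ρ ^ 4) y) ((ρ ^ 6) y) * swap ((ρ ^ 6) y) ((ρ ^ 8) y) := by
    have : ρ ^ 4 * (swap ((ρ ^ 0) y) ((ρ ^ 2) y) * swap ((ρ ^ 2) y) ((ρ ^ 4) y)) * (ρ ^ 4)⁻¹
        = (ρ ^ 4 * swap ((ρ ^ 0) y) ((ρ ^ 2) y) * (ρ ^ 4)⁻¹) *
          (ρ ^ 4 * swap ((ρ ^ 2) y) ((ρ ^ 4) y) * (ρ ^ 4)⁻¹) := by group
    rw [this, conj_swap_pow, conj_swap_pow]
  have hc'H : swap ((ρ ^ 4) y) ((ρ ^ 6) y) * swap ((ρ ^ 6) y) ((ρ ^ 8) y) ∈ H := by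
    rw [← hc']
    exact H.mul_mem (H.mul_mem (H.pow_mem hρ 4) hcH) (H.inv_mem (H.pow_mem hρ 4))
  -- the five points
  let v : Fin 5 → α := fun i => (ρ ^ (2 * (i : ℕ))) y
  have hv : Function.Injective v := by
    intro i j hij
    by_contra hne
    exact even_pts_ne ρ y hodd h5 i j i.2 j.2 (fun h => hne (Fin.ext h)) hij
  exact not_solvable_two_three_cycles v hv H hcH hc'H

theorem mp_sq (f : Perm α) (x : α) (hodd : Odd (mp f x)) : mp (f ^ 2) x = mp f x := by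
  unfold mp
  have h1 : (⇑(f ^ 2) : α → α) = (⇑f)^[2] := by
    rw [Equiv.Perm.iterate_eq_pow]
  rw [h1, Function.minimalPeriod_iterate_eq_div_gcd (by norm_num)]
  have hcop : Nat.gcd (Function.minimalPeriod (⇑f) x) 2 = 1 := Nat.coprime_two_right.mpr hodd
  rw [hcop, Nat.div_one]

/-- The same certificate for `ρ²`: `e = (y_0 y_4)(y_2 y_6)`. -/
theorem cert_A1_sq (ρ : Perm α) (y : α) (hodd : Odd (mp ρ y)) (h5 : 5 ≤ mp ρ y) :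
    ¬ Group.IsSolvable (Subgroup.closure
      ({ρ, swap y ((ρ ^ 4) y) * swap ((ρ ^ 2) y) ((ρ ^ 6) y)} : Set (Perm α))) := by
  have hm : mp (ρ ^ 2) y = mp ρ y := mp_sq ρ y hodd
  have h := cert_A1 (ρ ^ 2) y (by rw [hm]; exact hodd) (by rw [hm]; exact h5)
  have e2 : (ρ ^ 2) ^ 2 = ρ ^ 4 := by rw [← pow_mul]
  have e3 : (ρ ^ 2) ^ 3 = ρ ^ 6 := by rw [← pow_mul]
  rw [e2, e3] at h
  refine not_solvable_of_le _ _ ?_ h
  rw [Subgroup.closure_le]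
  intro z hz
  rcases hz with rfl | rfl
  · exact Subgroup.pow_mem _ (Subgroup.subset_closure (by simp)) 2
  · exact Subgroup.subset_closure (by simp)

end Cfsg.Agent.Lib.Helper14.S2276
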