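import Cfsg.Agent.Lib.Helper14.S2276.Basics

/-! # S2276 farm, piece [X]: from the merged cycle to `Good`.

`σ = lam * e * ρ⁻¹`, so `σ * ρ = lam * e` with `lam`, `e` disjoint, `e` an even involution.
(i) `(lam*e)^(p^k) = lam^(p^k) * e` moves a point moved by `e`, so `σ*ρ` has no `p`-power order.
(ii) `sign σ = 1` (`σ` a cycle of odd length `#S`), so `sign lam = 1`, so `N = orderOf lam` is odd,
so `(σ*ρ)^N = e ∈ ⟨σ, ρ⟩`; `⟨ρ, e⟩` is not solvable, hence neither is `⟨σ, ρ⟩`. -/

set_option autoImplicit false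

namespace Cfsg.Agent.Lib.Helper14.S2276

open Equiv Equiv.Perm

variable {α : Type*} [Fintype α] [DecidableEq α]

namespace Helper1

theorem pow_odd_of_sq {G : Type*} [Group G] (e : G) (he2 : e * e = 1) (n : ℕ) (hn : Odd n) :
    e ^ n = e := by
  obtain ⟨m, rfl⟩ := hn
  rw [pow_succ, pow_mul, sq, he2, one_pow, one_mul]

theorem odd_orderOf_of_sign (lam : Perm α) (hlam : lam = 1 ∨ lam.IsCycle)
    (hs : Perm.sign lam = 1) : Odd (orderOf lam) := by
  rcases hlam with rfl | hc
  · rw [orderOf_one]; exact odd_one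
  · rw [hc.orderOf]
    by_contra hodd
    have hev : Even lam.support.card := Nat.not_odd_iff_even.1 hodd
    have := hc.sign
    rw [hev.neg_one_pow, hs] at this
    exact absurd this (by decide)

end Helper1

theorem good_of_merge (p : ℕ) (hp : p.Prime) (hp2 : p ≠ 2) (ρ e lam : Perm α) (S : Finset α)
    (hScard : Odd S.card) (hS2 : 2 ≤ S.card)
    (hρsign : Perm.sign ρ = 1) (hesign : Perm.sign e = 1) (he2 : e * e = 1) (he1 : e ≠ 1)
    (hlam : lam = 1 ∨ lam.IsCycle) (hdisj : ∀ x, e x ≠ x → lam x = x)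
    (hfull : FullOn (lam * e * ρ⁻¹) S)
    (hcert : ¬ Group.IsSolvable (Subgroup.closure ({ρ, e} : Set (Perm α)))) :
    Good p (lam * e * ρ⁻¹) ρ := by
  have hσρ : lam * e * ρ⁻¹ * ρ = lam * e := by group
  have hdis : Perm.Disjoint lam e := by
    intro x
    by_cases hx : e x = x
    · exact Or.inr hx
    · exact Or.inl (hdisj x hx)
  have hcomm : Commute lam e := hdis.commute
  have hpodd : Odd p := hp.odd_of_ne_two hp2
  constructor
  · rintro ⟨k, hk⟩
    rw [hσρ] at hk
    have h1 : (lam * e) ^ (p ^ k) = 1 := by rw [← hk]; exact pow_orderOf_eq_one _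
    rw [hcomm.mul_pow, Helper1.pow_odd_of_sq e he2 (p ^ k) hpodd.pow] at h1
    -- pick a point moved by e
    obtain ⟨x, hx⟩ : ∃ x, e x ≠ x := by
      by_contra hcon
      apply he1
      ext y
      by_contra hy
      exact hcon ⟨y, hy⟩
    have hex : e (e x) ≠ e x := by
      intro h
      exact hx (e.injective h)
    have hl : lam (e x) = e x := hdisj (e x) hex
    have hlp : (lam ^ (p ^ k)) (e x) = e x := by
      have : ∀ n : ℕ, (lam ^ n) (e x) = e x := by
        intro n
        induction n with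
        | zero => simp
        | succ n ih => rw [pow_succ, Perm.mul_apply, hl, ih]
      exact this _
    have := congrArg (fun f : Perm α => f x) h1
    simp only [Perm.mul_apply, Perm.one_apply] at this
    rw [hlp] at this
    exact hx this
  · -- sign computation
    obtain ⟨hcyc, hsupp⟩ := FullOn.isCycle (lam * e * ρ⁻¹) S hfull hS2
    have hsσ : Perm.sign (lam * e * ρ⁻¹) = 1 := by
      rw [hcyc.sign, hsupp, hScard.neg_one_pow]
      simp
    have hsl : Perm.sign lam = 1 := by
      rw [Perm.sign_mul, Perm.sign_mul, Perm.sign_inv, hρsign, hesign] at hsσ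
      simpa using hsσ
    have hN : Odd (orderOf lam) := Helper1.odd_orderOf_of_sign lam hlam hsl
    have hpow : (lam * e * ρ⁻¹ * ρ) ^ (orderOf lam) = e := by
      rw [hσρ, hcomm.mul_pow, pow_orderOf_eq_one, one_mul,
        Helper1.pow_odd_of_sq e he2 _ hN]
    have hmem' : (lam * e * ρ⁻¹ * ρ) ^ (orderOf lam) ∈
        Subgroup.closure ({lam * e * ρ⁻¹, ρ} : Set (Perm α)) := by
      apply Subgroup.pow_mem
      apply Subgroup.mul_mem
      · exact Subgroup.subset_closure (by simp)
      · exact Subgroup.subset_closure (by simp)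
    have hmem : e ∈ Subgroup.closure ({lam * e * ρ⁻¹, ρ} : Set (Perm α)) := by
      rw [hpow] at hmem'
      exact hmem'
    exact not_solvable_closure_of_mem (lam * e * ρ⁻¹) ρ e hmem hcert

end Cfsg.Agent.Lib.Helper14.S2276
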