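import Cfsg.Agent.Lib.Helper14.S2276.Basics

/-! # S2276 farm, piece [ALT]: from `Perm (Fin n)` to `alternatingGroup (Fin n)`. -/

set_option autoImplicit false

namespace Cfsg.Agent.Lib.Helper14.S2276

open Equiv Equiv.Perm

namespace Helper6

/-- Solvability of `closure {a, b}` in a subgroup `H` gives solvability of the closure of the
images in the ambient group. -/
theorem solvable_closure_coe {G : Type*} [Group G] (H : Subgroup G) (a b : H)
    (h : Group.IsSolvable (Subgroup.closure ({a, b} : Set H))) :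
    Group.IsSolvable (Subgroup.closure ({(a : G), (b : G)} : Set G)) := by
  have hmap : (Subgroup.closure ({a, b} : Set H)).map H.subtype =
      Subgroup.closure ({(a : G), (b : G)} : Set G) := by
    rw [MonoidHom.map_closure, Set.image_pair]
    rfl
  rw [← hmap]
  have := h
  exact Group.isSolvable_of_surjective
    (f := H.subtype.subgroupMap (Subgroup.closure ({a, b} : Set H)))
    (H.subtype.subgroupMap_surjective _)

end Helper6

theorem alt_of_perm (n p : ℕ) (u w : alternatingGroup (Fin n)) (g : Perm (Fin n))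
    (hg : Perm.sign g = 1)
    (h : Good p (u : Perm (Fin n)) (g * (w : Perm (Fin n)) * g⁻¹)) :
    ∃ g' : alternatingGroup (Fin n),
      (¬ ∃ k : ℕ, orderOf (u * (g' * w * g'⁻¹)) = p ^ k) ∧
      ¬ Group.IsSolvable ↥(Subgroup.closure
        ({u, g' * w * g'⁻¹} : Set (alternatingGroup (Fin n)))) := by
  obtain ⟨h1, h2⟩ := h
  have hgA : g ∈ alternatingGroup (Fin n) := Equiv.Perm.mem_alternatingGroup.2 hg
  have he2 : (((⟨g, hgA⟩ : alternatingGroup (Fin n)) * w *
      (⟨g, hgA⟩ : alternatingGroup (Fin n))⁻¹ : alternatingGroup (Fin n)) : Perm (Fin n)) =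
      g * (w : Perm (Fin n)) * g⁻¹ := by
    simp only [Subgroup.coe_mul, Subgroup.coe_inv]
  have he : (((u * ((⟨g, hgA⟩ : alternatingGroup (Fin n)) * w *
      (⟨g, hgA⟩ : alternatingGroup (Fin n))⁻¹) :
      alternatingGroup (Fin n))) : Perm (Fin n)) =
      (u : Perm (Fin n)) * (g * (w : Perm (Fin n)) * g⁻¹) := by
    rw [Subgroup.coe_mul, he2]
  refine ⟨⟨g, hgA⟩, ?_, ?_⟩
  · rintro ⟨k, hk⟩
    apply h1
    refine ⟨k, ?_⟩
    have h3 := Subgroup.orderOf_coe (u * ((⟨g, hgA⟩ :
      alternatingGroup (Fin n)) * w * (⟨g, hgA⟩ : alternatingGroup (Fin n))⁻¹))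
    rw [he] at h3
    rw [h3]
    exact hk
  · intro hs
    apply h2
    have h4 := Helper6.solvable_closure_coe (alternatingGroup (Fin n)) u
      ((⟨g, hgA⟩ : alternatingGroup (Fin n)) * w * (⟨g, hgA⟩ : alternatingGroup (Fin n))⁻¹) hs
    rw [he2] at h4
    exact h4

end Cfsg.Agent.Lib.Helper14.S2276
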