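import Cfsg.Agent.Lib.Helper14.S2276.Defs

/-! # S2276 farm, piece [G2]: `restr`. -/

set_option autoImplicit false

namespace Cfsg.Agent.Lib.Helper14.S2276

open Equiv Equiv.Perm

variable {α : Type*} [Fintype α] [DecidableEq α]

theorem restr_apply_mem (f : Perm α) (S : Finset α) (h : Inv f S) (x : α) (hx : x ∈ S) :
    restr f S x = f x := by
  have h' : ∀ x, f x ∈ S ↔ x ∈ S := h
  unfold restr
  rw [dif_pos h']
  rw [ofSubtype_apply_of_mem _ hx]
  rfl

theorem restr_apply_not_mem (f : Perm α) (S : Finset α) (x : α) (hx : x ∉ S) :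
    restr f S x = x := by
  unfold restr
  by_cases h' : ∀ x, f x ∈ S ↔ x ∈ S
  · rw [dif_pos h']
    exact ofSubtype_apply_of_not_mem _ hx
  · rw [dif_neg h']
    rfl

theorem restr_inv_mem (f : Perm α) (S : Finset α) (h : Inv f S) : Inv (restr f S) S := by
  intro x
  by_cases hx : x ∈ S
  · rw [restr_apply_mem f S h x hx]
    exact h x
  · rw [restr_apply_not_mem f S x hx]

namespace Helper1

/-- Pointwise characterisation of `restr`. -/
theorem eq_restr (f g : Perm α) (S : Finset α) (h : Inv f S)
    (h1 : ∀ x ∈ S, g x = f x) (h2 : ∀ x, x ∉ S → g x = x) : g = restr f S := by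
  ext x
  by_cases hx : x ∈ S
  · rw [h1 x hx, restr_apply_mem f S h x hx]
  · rw [h2 x hx, restr_apply_not_mem f S x hx]

theorem inv_pow (f : Perm α) (S : Finset α) (h : Inv f S) (k : ℕ) : Inv (f ^ k) S := by
  induction k with
  | zero => intro x; simp
  | succ k ih =>
    intro x
    rw [pow_succ, Perm.mul_apply]
    rw [ih (f x)]
    exact h x

theorem inv_mul (f g : Perm α) (S : Finset α) (hf : Inv f S) (hg : Inv g S) :
    Inv (f * g) S := by
  intro x
  rw [Perm.mul_apply, hf (g x)]
  exact hg x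

theorem inv_one (S : Finset α) : Inv (1 : Perm α) S := by
  intro x; simp

theorem restr_pow_apply (f : Perm α) (S : Finset α) (h : Inv f S) (k : ℕ) (x : α)
    (hx : x ∈ S) : ((restr f S) ^ k) x = (f ^ k) x := by
  induction k generalizing x with
  | zero => simp
  | succ k ih =>
    rw [pow_succ, Perm.mul_apply, pow_succ, Perm.mul_apply,
      restr_apply_mem f S h x hx]
    exact ih (f x) ((h x).2 hx)

theorem restr_pow_apply_not_mem (f : Perm α) (S : Finset α) (k : ℕ) (x : α)
    (hx : x ∉ S) : ((restr f S) ^ k) x = x := by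
  induction k with
  | zero => simp
  | succ k ih =>
    rw [pow_succ, Perm.mul_apply, restr_apply_not_mem f S x hx]
    exact ih

end Helper1

theorem restr_pow (f : Perm α) (S : Finset α) (h : Inv f S) (k : ℕ) :
    (restr f S) ^ k = restr (f ^ k) S := by
  apply Helper1.eq_restr (f ^ k) ((restr f S) ^ k) S (Helper1.inv_pow f S h k)
  · intro x hx
    exact Helper1.restr_pow_apply f S h k x hx
  · intro x hx
    exact Helper1.restr_pow_apply_not_mem f S k x hx

theorem restr_mul (f g : Perm α) (S : Finset α) (hf : Inv f S) (hg : Inv g S) :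
    restr (f * g) S = restr f S * restr g S := by
  symm
  apply Helper1.eq_restr (f * g) (restr f S * restr g S) S (Helper1.inv_mul f g S hf hg)
  · intro x hx
    rw [Perm.mul_apply, Perm.mul_apply, restr_apply_mem g S hg x hx,
      restr_apply_mem f S hf (g x) ((hg x).2 hx)]
  · intro x hx
    rw [Perm.mul_apply, restr_apply_not_mem g S x hx, restr_apply_not_mem f S x hx]

theorem restr_one (S : Finset α) : restr (1 : Perm α) S = 1 := by
  symm
  apply Helper1.eq_restr (1 : Perm α) 1 S (Helper1.inv_one S)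
  · intro x _; rfl
  · intro x _; rfl

/-- `restr` commutes with conjugation: `g` carries `S` onto `g(S) = T`. -/
theorem restr_conj (f g : Perm α) (S T : Finset α) (hf : Inv f S)
    (hg : ∀ x, g x ∈ T ↔ x ∈ S) :
    restr (g * f * g⁻¹) T = g * restr f S * g⁻¹ := by
  have hg' : ∀ y, g⁻¹ y ∈ S ↔ y ∈ T := by
    intro y
    rw [← hg (g⁻¹ y)]
    simp
  have hinv : Inv (g * f * g⁻¹) T := by
    intro y
    rw [Perm.mul_apply, Perm.mul_apply, hg, hf (g⁻¹ y)]
    exact hg' y
  symm
  apply Helper1.eq_restr (g * f * g⁻¹) (g * restr f S * g⁻¹) T hinv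
  · intro y hy
    rw [Perm.mul_apply, Perm.mul_apply, Perm.mul_apply, Perm.mul_apply,
      restr_apply_mem f S hf (g⁻¹ y) ((hg' y).2 hy)]
  · intro y hy
    have : g⁻¹ y ∉ S := fun hh => hy ((hg' y).1 hh)
    rw [Perm.mul_apply, Perm.mul_apply, restr_apply_not_mem f S (g⁻¹ y) this]
    simp

theorem mp_restr (f : Perm α) (S : Finset α) (h : Inv f S) (x : α) (hx : x ∈ S) :
    mp (restr f S) x = mp f x := by
  unfold mp
  rw [Function.minimalPeriod_eq_minimalPeriod_iff]
  intro n
  unfold Function.IsPeriodicPt Function.IsFixedPt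
  rw [Equiv.Perm.iterate_eq_pow, Equiv.Perm.iterate_eq_pow,
    Helper1.restr_pow_apply f S h n x hx]

theorem orderOf_restr_dvd (f : Perm α) (S : Finset α) (h : Inv f S) :
    orderOf (restr f S) ∣ orderOf f := by
  apply orderOf_dvd_of_pow_eq_one
  rw [restr_pow f S h, pow_orderOf_eq_one, restr_one]

end Cfsg.Agent.Lib.Helper14.S2276
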