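import Cfsg.Agent.Lib.Helper14.S2276.Defs

/-! # S2276 farm, piece [G3]: orbit sizes `mp`, full cycles, the orbit finset. (proofs: helper3) -/

set_option autoImplicit false

namespace Cfsg.Agent.Lib.Helper14.S2276

open Equiv Equiv.Perm

variable {α : Type*} [Fintype α] [DecidableEq α]

namespace Helper3

theorem isPeriodicPt_iff (f : Perm α) (n : ℕ) (x : α) :
    Function.IsPeriodicPt f n x ↔ (f ^ n) x = x := by
  unfold Function.IsPeriodicPt Function.IsFixedPt
  rw [Equiv.Perm.iterate_eq_pow]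

theorem mem_periodicPts (f : Perm α) (x : α) : x ∈ Function.periodicPts f := by
  refine Function.mk_mem_periodicPts (orderOf_pos f) ?_
  rw [isPeriodicPt_iff, pow_orderOf_eq_one, Perm.one_apply]

theorem pow_mp_apply (f : Perm α) (x : α) : (f ^ mp f x) x = x := by
  rw [← isPeriodicPt_iff]
  exact Function.isPeriodicPt_minimalPeriod f x

theorem pow_apply_eq_self_iff (f : Perm α) (x : α) (n : ℕ) : (f ^ n) x = x ↔ mp f x ∣ n := by
  rw [← isPeriodicPt_iff]
  exact Function.isPeriodicPt_iff_minimalPeriod_dvd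

theorem pow_apply_eq_of_le (f : Perm α) (x : α) {i j : ℕ} (hij : i ≤ j) :
    (f ^ i) x = (f ^ j) x ↔ i ≡ j [MOD mp f x] := by
  obtain ⟨d, rfl⟩ := Nat.exists_eq_add_of_le hij
  rw [pow_add, Perm.mul_apply, (f ^ i).injective.eq_iff, eq_comm, pow_apply_eq_self_iff,
    Nat.modEq_iff_dvd' (Nat.le_add_right i d), Nat.add_sub_cancel_left]

end Helper3

/-- An element of odd order is even. -/
theorem sign_eq_one_of_prime_pow (p : ℕ) (hp : p.Prime) (hp2 : p ≠ 2) (f : Perm α)
    (hf : ∃ k : ℕ, orderOf f = p ^ k) : Perm.sign f = 1 := by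
  obtain ⟨k, hk⟩ := hf
  have h1 : (Perm.sign f) ^ (p ^ k) = 1 := by
    rw [← map_pow, ← hk, pow_orderOf_eq_one, map_one]
  rcases Int.units_eq_one_or (Perm.sign f) with h | h
  · exact h
  · exfalso
    rw [h, Odd.neg_one_pow ((hp.odd_of_ne_two hp2).pow)] at h1
    exact absurd h1 (by decide)

theorem mp_prime_pow (p : ℕ) (hp : p.Prime) (f : Perm α) (hf : ∃ k : ℕ, orderOf f = p ^ k)
    (x : α) : ∃ i : ℕ, mp f x = p ^ i := by
  obtain ⟨k, hk⟩ := hf
  have h1 : mp f x ∣ p ^ k := by
    rw [← hk, ← Helper3.pow_apply_eq_self_iff, pow_orderOf_eq_one, Perm.one_apply]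
  obtain ⟨i, -, hi⟩ := (Nat.dvd_prime_pow hp).1 h1
  exact ⟨i, hi⟩

theorem mp_pos (f : Perm α) (x : α) : 0 < mp f x :=
  Function.minimalPeriod_pos_of_mem_periodicPts (Helper3.mem_periodicPts f x)

theorem mp_eq_one_iff (f : Perm α) (x : α) : mp f x = 1 ↔ f x = x :=
  Function.minimalPeriod_eq_one_iff_isFixedPt

/-- `f ^ i x = f ^ j x ↔ i ≡ j [MOD mp f x]`. -/
theorem pow_apply_eq_iff (f : Perm α) (x : α) (i j : ℕ) :
    (f ^ i) x = (f ^ j) x ↔ i ≡ j [MOD mp f x] := by
  rcases le_total i j with h | h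
  · exact Helper3.pow_apply_eq_of_le f x h
  · rw [eq_comm, Helper3.pow_apply_eq_of_le f x h]
    exact ⟨Nat.ModEq.symm, Nat.ModEq.symm⟩

theorem mp_pow_apply (f : Perm α) (x : α) (i : ℕ) : mp f ((f ^ i) x) = mp f x := by
  have := Function.minimalPeriod_apply_iterate (Helper3.mem_periodicPts f x) i
  rw [Equiv.Perm.iterate_eq_pow] at this
  exact this

/-- If all orbits have size at most `m` dividing ... : `f ^ m = 1` when every orbit size divides `m`. -/
theorem pow_eq_one_of_mp_dvd (f : Perm α) (m : ℕ) (h : ∀ x, mp f x ∣ m) : f ^ m = 1 := by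
  ext x
  rw [Perm.one_apply, Helper3.pow_apply_eq_self_iff]
  exact h x

/-- A full cycle on `S` (`2 ≤ #S`) is a cycle with support `S`. -/
theorem FullOn.isCycle (f : Perm α) (S : Finset α) (h : FullOn f S) (hS : 2 ≤ S.card) :
    f.IsCycle ∧ f.support = S := by
  obtain ⟨h1, h2⟩ := h
  have hmoved : ∀ x ∈ S, f x ≠ x := by
    intro x hx hfx
    obtain ⟨y, hy, hyx⟩ : ∃ y ∈ S, y ≠ x := by
      by_contra hcon
      push Not at hcon
      have : S ⊆ {x} := fun y hy => Finset.mem_singleton.2 (hcon y hy)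
      have := Finset.card_le_card this
      rw [Finset.card_singleton] at this
      omega
    exact hyx ((h2 x hx y hy).eq_of_left hfx).symm
  have hsupp : f.support = S := by
    ext y
    rw [Perm.mem_support]
    constructor
    · intro hy
      by_contra hyS
      exact hy (h1 y hyS)
    · exact hmoved y
  refine ⟨?_, hsupp⟩
  obtain ⟨x, hx⟩ : ∃ x, x ∈ S := by
    apply Finset.card_pos.1
    omega
  refine ⟨x, hmoved x hx, fun y hy => h2 x hx y ?_⟩
  by_contra hyS
  exact hy (h1 y hyS)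

theorem FullOn.inv_mem (f : Perm α) (S : Finset α) (h : FullOn f S) : Inv f S := by
  obtain ⟨h1, h2⟩ := h
  intro x
  constructor
  · intro hfx
    by_contra hx
    rw [h1 x hx] at hfx
    exact hx hfx
  · intro hx
    by_contra hfx
    have := h1 (f x) hfx
    have := f.injective this
    rw [this] at hfx
    exact hfx hx

/-- The orbit of `x` as a finset. -/
theorem exists_orbit_finset (f : Perm α) (x : α) :
    ∃ S : Finset α, Inv f S ∧ S.card = mp f x ∧ x ∈ S ∧
      (∀ y ∈ S, ∀ z ∈ S, f.SameCycle y z) := by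
  classical
  have hpos := mp_pos f x
  refine ⟨(Finset.range (mp f x)).image (fun i => (f ^ i) x), ?_, ?_, ?_, ?_⟩
  · intro y
    simp only [Finset.mem_image, Finset.mem_range]
    constructor
    · rintro ⟨i, hi, hiy⟩
      refine ⟨(i + (mp f x - 1)) % mp f x, Nat.mod_lt _ hpos, ?_⟩
      apply f.injective
      rw [← hiy, ← Perm.mul_apply, ← pow_succ']
      rw [pow_apply_eq_iff]
      have : (i + (mp f x - 1)) % mp f x + 1 ≡ (i + (mp f x - 1)) + 1 [MOD mp f x] :=
        Nat.ModEq.add_right 1 (Nat.mod_modEq _ _)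
      refine this.trans ?_
      have e : i + (mp f x - 1) + 1 = i + mp f x := by omega
      rw [e]
      exact Nat.add_modEq_right
    · rintro ⟨i, hi, rfl⟩
      refine ⟨(i + 1) % mp f x, Nat.mod_lt _ hpos, ?_⟩
      rw [← Perm.mul_apply, ← pow_succ', pow_apply_eq_iff]
      exact Nat.mod_modEq _ _
  · rw [Finset.card_image_of_injOn, Finset.card_range]
    intro i hi j hj hij
    simp only [Finset.coe_range, Set.mem_Iio] at hi hj
    have := (pow_apply_eq_iff f x i j).1 hij
    exact Nat.ModEq.eq_of_lt_of_lt this hi hj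
  · simp only [Finset.mem_image, Finset.mem_range]
    exact ⟨0, hpos, by simp⟩
  · intro y hy z hz
    simp only [Finset.mem_image, Finset.mem_range] at hy hz
    obtain ⟨i, -, rfl⟩ := hy
    obtain ⟨j, -, rfl⟩ := hz
    rw [sameCycle_pow_left, sameCycle_pow_right]

end Cfsg.Agent.Lib.Helper14.S2276
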