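import Cfsg.Agent.Lib.Helper14.S2276.BasicsG1
import Cfsg.Agent.Lib.Helper14.S2276.BasicsG2
import Cfsg.Agent.Lib.Helper14.S2276.BasicsG3

/-! # S2276 farm: all basic lemmas ([G1], [G2], [G3]); every other piece imports this file. -/
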