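import Cfsg.Agent.Lib.Helper14.S2276.Defs

/-! # S2276 farm, piece [G1]: `Good` under conjugation, swapping, enlarging. -/

set_option autoImplicit false

namespace Cfsg.Agent.Lib.Helper14.S2276

open Equiv Equiv.Perm

variable {G : Type*} [Group G]

namespace Helper6

/-- If `φ` is injective and maps `x, y` into `closure {x', y'}`, solvability of the latter passes to
`closure {x, y}`. -/
theorem solvable_closure_of_injective {H : Type*} [Group H] (φ : G →* H)
    (hφ : Function.Injective φ) (x y : G) (x' y' : H)
    (hx : φ x ∈ Subgroup.closure ({x', y'} : Set H))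
    (hy : φ y ∈ Subgroup.closure ({x', y'} : Set H))
    (h : Group.IsSolvable (Subgroup.closure ({x', y'} : Set H))) :
    Group.IsSolvable (Subgroup.closure ({x, y} : Set G)) := by
  have hle : Subgroup.closure ({x, y} : Set G) ≤
      (Subgroup.closure ({x', y'} : Set H)).comap φ := by
    rw [Subgroup.closure_le]
    intro z hz
    rcases hz with rfl | hz
    · exact hx
    · rw [Set.mem_singleton_iff] at hz
      subst hz
      exact hy
  let f : Subgroup.closure ({x, y} : Set G) →* Subgroup.closure ({x', y'} : Set H) :=
    (φ.comp (Subgroup.closure ({x, y} : Set G)).subtype).codRestrict _ (fun z => hle z.2)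
  have hf : Function.Injective f := by
    intro a b hab
    have h1 : φ (a : G) = φ (b : G) := congrArg Subtype.val hab
    exact Subtype.ext (hφ h1)
  have := h
  exact Group.isSolvable_of_isSolvable_injective hf

end Helper6

theorem good_conj (p : ℕ) (x y c : G) (h : Good p x y) :
    Good p (c * x * c⁻¹) (c * y * c⁻¹) := by
  obtain ⟨h1, h2⟩ := h
  refine ⟨?_, ?_⟩
  · rintro ⟨k, hk⟩
    apply h1
    refine ⟨k, ?_⟩
    rw [← hk]
    have he : c * x * c⁻¹ * (c * y * c⁻¹) = (MulAut.conj c).toMonoidHom (x * y) := by
      simp [MulAut.conj_apply, mul_assoc]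
    rw [he]
    exact (orderOf_injective (MulAut.conj c).toMonoidHom (MulAut.conj c).injective (x * y)).symm
  · intro hs
    apply h2
    refine Helper6.solvable_closure_of_injective (MulAut.conj c).toMonoidHom
      (MulAut.conj c).injective x y (c * x * c⁻¹) (c * y * c⁻¹) ?_ ?_ hs
    · apply Subgroup.subset_closure
      left
      simp [MulAut.conj_apply]
    · apply Subgroup.subset_closure
      right
      simp [MulAut.conj_apply]

theorem good_swap (p : ℕ) (x y : G) (h : Good p x y) : Good p y x := by
  obtain ⟨h1, h2⟩ := h
  refine ⟨?_, ?_⟩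
  · rintro ⟨k, hk⟩
    apply h1
    refine ⟨k, ?_⟩
    rw [← hk]
    have he : y * x = (MulAut.conj x⁻¹).toMonoidHom (x * y) := by
      simp [MulAut.conj_apply, mul_assoc]
    rw [he]
    exact (orderOf_injective (MulAut.conj x⁻¹).toMonoidHom (MulAut.conj x⁻¹).injective
      (x * y)).symm
  · rw [Set.pair_comm]
    exact h2

/-- Enlarging: if `e ∈ ⟨x, y⟩` and `⟨y, e⟩` is not solvable then neither is `⟨x, y⟩`. -/
theorem not_solvable_closure_of_mem (x y e : G)
    (he : e ∈ Subgroup.closure ({x, y} : Set G))
    (h : ¬ Group.IsSolvable (Subgroup.closure ({y, e} : Set G))) :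
    ¬ Group.IsSolvable (Subgroup.closure ({x, y} : Set G)) := by
  intro hs
  apply h
  have hle : Subgroup.closure ({y, e} : Set G) ≤ Subgroup.closure ({x, y} : Set G) := by
    rw [Subgroup.closure_le]
    intro z hz
    rcases hz with rfl | hz
    · exact Subgroup.subset_closure (by right; rfl)
    · rw [Set.mem_singleton_iff] at hz
      subst hz
      exact he
  have := hs
  exact Group.isSolvable_of_isSolvable_injective (Subgroup.inclusion_injective hle)

end Cfsg.Agent.Lib.Helper14.S2276
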