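import Cfsg.Agent.Lib.Helper14.S2276.Merge
import Cfsg.Agent.Lib.Helper14.S2276.Extract
import Cfsg.Agent.Lib.Helper14.S2276.CertA

/-! # (piece [A1] of this file)  # S2276 farm, pieces [A1], [A2], [A3]: the block `S` contains an orbit of size `≥ 5`.

Notation: `ρ = restr w S`, `y_i = ρ^i y = w^i y`.

[A1] `e = (y_0 y_2)(y_1 y_3)`, `π = e * ρ⁻¹`, `F = {y_0,..,y_3}`; `π` maps
`y_4 ↦ y_1 ↦ y_2 ↦ y_3 ↦ y_0 ↦ y_{-1}`, so every point of `F` reaches `y_{-1} ∉ F` (orbit size ≥ 5)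
and `π = ρ⁻¹` on orbits not meeting `F`; `merge` gives `lam`, `σ = lam * e * ρ⁻¹`,
`good_of_merge` + `cert_A1` (for `ρ`; note `mp ρ y = mp w y` is odd, a power of the odd `p`).

[A2] orbit size `≥ 9`: `merge` for `π = ρ⁻¹`, `F = {y_0,..,y_6}` gives `lam`, `σ₀ = lam * ρ⁻¹`;
`κ₁ = (y_1 y_3)`, `κ₂ = (y_1 y_5)(y_2 y_6)`; `σ_i = κ_i σ₀ κ_i⁻¹ = lam * e_i * ρ⁻¹` with
`e_i = κ_i ρ⁻¹ κ_i⁻¹ ρ`: `e₁ = (y_1 y_3)(y_0 y_2)`, `e₂ = (y_2 y_6)(y_0 y_4)`;
`good_of_merge` with `cert_A1`, `cert_A1_sq`; `κ = κ₂ κ₁⁻¹` is odd.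

[A3] `S` is the orbit of `y`, of prime size `p ≥ 5`: `σ₀ = ρ⁻¹`, `σ_i = κ_i ρ⁻¹ κ_i⁻¹`,
`σ_i ρ = e_i`; `κ₁ = (y_1 y_3)`; `κ₂ = (y_1 y_5)(y_2 y_6)` if `p ≥ 7` and
`κ₂ = (y_1 y_2 y_3)`, `e₂` a 3-cycle, if `p = 5`.  No merging: `Good` directly
(`e_i` has order 2 or 3, not a power of `p`; `e_i ∈ ⟨σ_i, ρ⟩`, certificate for `⟨ρ, e_i⟩`). -/

set_option autoImplicit false
set_option linter.unusedSectionVars false

namespace Cfsg.Agent.Lib.Helper14.S2276

open Equiv Equiv.Perm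

variable {α : Type*} [Fintype α] [DecidableEq α]

namespace Helper15

theorem apply_inv' (ρ : Perm α) (x : α) : ρ (ρ⁻¹ x) = x := ρ.apply_symm_apply x

theorem inv_apply' (ρ : Perm α) (x : α) : ρ⁻¹ (ρ x) = x := ρ.symm_apply_apply x

/-- Points `ρ^i y`, `i < mp ρ y`, are pairwise distinct. -/
theorem pow_ne_of_lt (ρ : Perm α) (y : α) {i j : ℕ} (hij : i < j) (hj : j < mp ρ y) :
    (ρ ^ i) y ≠ (ρ ^ j) y := by
  intro h
  have h1 : i % mp ρ y = j % mp ρ y := (pow_apply_eq_iff ρ y i j).mp h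
  rw [Nat.mod_eq_of_lt (lt_trans hij hj), Nat.mod_eq_of_lt hj] at h1
  omega

/-- `ρ⁻¹ y` differs from `ρ^i y` for `i + 1 < mp ρ y`. -/
theorem inv_ne_pow (ρ : Perm α) (y : α) {i : ℕ} (hi : i + 1 < mp ρ y) :
    ρ⁻¹ y ≠ (ρ ^ i) y := by
  intro h
  have h2 : (ρ ^ 0) y = (ρ ^ (i + 1)) y := by
    rw [pow_succ', Perm.mul_apply, ← h, pow_zero, Perm.one_apply, apply_inv']
  exact pow_ne_of_lt ρ y (Nat.succ_pos i) hi h2

theorem pow_mem_of_inv (ρ : Perm α) (S : Finset α) (hρS : Inv ρ S) (x : α) (hx : x ∈ S) (k : ℕ) :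
    (ρ ^ k) x ∈ S := by
  induction k with
  | zero => simpa using hx
  | succ k ih =>
    rw [pow_succ', Perm.mul_apply]
    exact (hρS _).mpr ih

theorem inv_mem_of_inv (ρ : Perm α) (S : Finset α) (hρS : Inv ρ S) (x : α) (hx : x ∈ S) :
    ρ⁻¹ x ∈ S := by
  apply (hρS (ρ⁻¹ x)).mp
  rw [apply_inv']
  exact hx

theorem inv_pow_succ_apply (ρ : Perm α) (y : α) (k : ℕ) :
    ρ⁻¹ ((ρ ^ (k + 1)) y) = (ρ ^ k) y := by
  rw [pow_succ', Perm.mul_apply, inv_apply']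

section dswap

variable {a b c d : α}

theorem dswap_apply_of_ne {x : α} (h1 : x ≠ a) (h2 : x ≠ b) (h3 : x ≠ c) (h4 : x ≠ d) :
    (swap a c * swap b d) x = x := by
  rw [Perm.mul_apply, swap_apply_of_ne_of_ne h2 h4, swap_apply_of_ne_of_ne h1 h3]

theorem dswap_a (hab : a ≠ b) (had : a ≠ d) : (swap a c * swap b d) a = c := by
  rw [Perm.mul_apply, swap_apply_of_ne_of_ne hab had, swap_apply_left]

theorem dswap_c (hcb : c ≠ b) (hcd : c ≠ d) : (swap a c * swap b d) c = a := by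
  rw [Perm.mul_apply, swap_apply_of_ne_of_ne hcb hcd, swap_apply_right]

theorem dswap_b (hda : d ≠ a) (hdc : d ≠ c) : (swap a c * swap b d) b = d := by
  rw [Perm.mul_apply, swap_apply_left, swap_apply_of_ne_of_ne hda hdc]

theorem dswap_d (hba : b ≠ a) (hbc : b ≠ c) : (swap a c * swap b d) d = b := by
  rw [Perm.mul_apply, swap_apply_right, swap_apply_of_ne_of_ne hba hbc]

/-- Disjoint transpositions commute. -/
theorem swap_comm_swap (hab : a ≠ b) (had : a ≠ d) (hcb : c ≠ b) (hcd : c ≠ d) :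
    swap a c * swap b d = swap b d * swap a c := by
  have h := swap_apply_apply (swap b d) a c
  rw [swap_apply_of_ne_of_ne hab had, swap_apply_of_ne_of_ne hcb hcd] at h
  calc swap a c * swap b d = (swap b d * swap a c * (swap b d)⁻¹) * swap b d := by rw [← h]
    _ = swap b d * swap a c := by group

theorem dswap_sq (hab : a ≠ b) (had : a ≠ d) (hcb : c ≠ b) (hcd : c ≠ d) :
    (swap a c * swap b d) * (swap a c * swap b d) = 1 := by
  calc (swap a c * swap b d) * (swap a c * swap b d)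
      = swap a c * (swap b d * swap a c) * swap b d := by group
    _ = swap a c * (swap a c * swap b d) * swap b d := by
        rw [swap_comm_swap hab had hcb hcd]
    _ = (swap a c * swap a c) * (swap b d * swap b d) := by group
    _ = 1 := by rw [swap_mul_self, swap_mul_self, one_mul]

theorem dswap_sign (hac : a ≠ c) (hbd : b ≠ d) : Perm.sign (swap a c * swap b d) = 1 := by
  rw [Perm.sign_mul, Perm.sign_swap hac, Perm.sign_swap hbd]
  decide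

theorem dswap_ne_one (hab : a ≠ b) (had : a ≠ d) (hac : a ≠ c) : swap a c * swap b d ≠ 1 := by
  intro h
  have := dswap_a (c := c) hab had
  rw [h, Perm.one_apply] at this
  exact hac this

end dswap

/-- The core of [A1], stated for a permutation `ρ` supported on `S`. -/
theorem caseA_core (p : ℕ) (hp : p.Prime) (hp2 : p ≠ 2) (ρ : Perm α) (S : Finset α)
    (hρS : Inv ρ S) (hρout : ∀ x, x ∉ S → ρ x = x) (hScard : Odd S.card)
    (y : α) (hy : y ∈ S) (hodd : Odd (mp ρ y)) (h5 : 5 ≤ mp ρ y) (hρsign : Perm.sign ρ = 1) :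
    ∃ σ : Perm α, FullOn σ S ∧ Good p σ ρ := by
  classical
  -- the points
  have e0 : (ρ ^ 0) y = y := by rw [pow_zero, Perm.one_apply]
  have e1 : (ρ ^ 1) y = ρ y := by rw [pow_one]
  have m1 : ρ y ∈ S := (hρS y).mpr hy
  have m2 : (ρ ^ 2) y ∈ S := pow_mem_of_inv ρ S hρS y hy 2
  have m3 : (ρ ^ 3) y ∈ S := pow_mem_of_inv ρ S hρS y hy 3
  have mm : ρ⁻¹ y ∈ S := inv_mem_of_inv ρ S hρS y hy
  have d01 : y ≠ ρ y := by
    have := pow_ne_of_lt ρ y (i := 0) (j := 1) (by omega) (by omega); rwa [e0, e1] at this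
  have d02 : y ≠ (ρ ^ 2) y := by
    have := pow_ne_of_lt ρ y (i := 0) (j := 2) (by omega) (by omega); rwa [e0] at this
  have d03 : y ≠ (ρ ^ 3) y := by
    have := pow_ne_of_lt ρ y (i := 0) (j := 3) (by omega) (by omega); rwa [e0] at this
  have d12 : ρ y ≠ (ρ ^ 2) y := by
    have := pow_ne_of_lt ρ y (i := 1) (j := 2) (by omega) (by omega); rwa [e1] at this
  have d13 : ρ y ≠ (ρ ^ 3) y := by
    have := pow_ne_of_lt ρ y (i := 1) (j := 3) (by omega) (by omega); rwa [e1] at this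
  have d23 : (ρ ^ 2) y ≠ (ρ ^ 3) y := pow_ne_of_lt ρ y (i := 2) (j := 3) (by omega) (by omega)
  have dm0 : ρ⁻¹ y ≠ y := by
    have := inv_ne_pow ρ y (i := 0) (by omega); rwa [e0] at this
  have dm1 : ρ⁻¹ y ≠ ρ y := by
    have := inv_ne_pow ρ y (i := 1) (by omega); rwa [e1] at this
  have dm2 : ρ⁻¹ y ≠ (ρ ^ 2) y := inv_ne_pow ρ y (i := 2) (by omega)
  have dm3 : ρ⁻¹ y ≠ (ρ ^ 3) y := inv_ne_pow ρ y (i := 3) (by omega)
  -- `e`, `π`, `F`
  let e : Perm α := swap y ((ρ ^ 2) y) * swap (ρ y) ((ρ ^ 3) y)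
  let F : Finset α := {y, ρ y, (ρ ^ 2) y, (ρ ^ 3) y}
  have hmemF : ∀ x, x ∈ F ↔ x = y ∨ x = ρ y ∨ x = (ρ ^ 2) y ∨ x = (ρ ^ 3) y := by
    intro x
    simp only [F, Finset.mem_insert, Finset.mem_singleton]
  have heout : ∀ x, x ∉ F → e x = x := by
    intro x hx
    rw [hmemF] at hx
    simp only [not_or] at hx
    exact dswap_apply_of_ne hx.1 hx.2.1 hx.2.2.1 hx.2.2.2
  have hmF : ρ⁻¹ y ∉ F := by
    rw [hmemF]; simp only [not_or]; exact ⟨dm0, dm1, dm2, dm3⟩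
  -- values of `π = e * ρ⁻¹`
  have p0 : (e * ρ⁻¹) y = ρ⁻¹ y := by
    rw [Perm.mul_apply]; exact heout _ hmF
  have p1 : (e * ρ⁻¹) (ρ y) = (ρ ^ 2) y := by
    rw [Perm.mul_apply, inv_apply']; exact dswap_a d01 d03
  have p2 : (e * ρ⁻¹) ((ρ ^ 2) y) = (ρ ^ 3) y := by
    rw [Perm.mul_apply, inv_pow_succ_apply, e1]; exact dswap_b d03.symm d23.symm
  have p3 : (e * ρ⁻¹) ((ρ ^ 3) y) = y := by
    rw [Perm.mul_apply, inv_pow_succ_apply]; exact dswap_c d12.symm d23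
  have hπ : ∀ x, x ∉ S → (e * ρ⁻¹) x = x := by
    intro x hx
    have hx' : ρ⁻¹ x = x := by
      rw [Perm.inv_eq_iff_eq]; exact (hρout x hx).symm
    rw [Perm.mul_apply, hx']
    apply heout
    rw [hmemF]; simp only [not_or]
    refine ⟨?_, ?_, ?_, ?_⟩
    · rintro rfl; exact hx hy
    · rintro rfl; exact hx m1
    · rintro rfl; exact hx m2
    · rintro rfl; exact hx m3
  have hF : ∀ x ∈ S, ∃ k : ℕ, ((e * ρ⁻¹) ^ k) x ∉ F := by
    intro x _
    by_cases hxF : x ∈ F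
    · rw [hmemF] at hxF
      rcases hxF with rfl | rfl | rfl | rfl
      · refine ⟨1, ?_⟩
        rw [pow_one, p0]; exact hmF
      · refine ⟨4, ?_⟩
        have : ((e * ρ⁻¹) ^ 4) (ρ y) = ρ⁻¹ y := by
          have q : ((e * ρ⁻¹) ^ 4) (ρ y)
              = (e * ρ⁻¹) ((e * ρ⁻¹) ((e * ρ⁻¹) ((e * ρ⁻¹) (ρ y)))) := by
            rw [pow_succ, pow_succ, pow_succ, pow_one, Perm.mul_apply, Perm.mul_apply,
              Perm.mul_apply]
          rw [q, p1, p2, p3, p0]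
        rw [this]; exact hmF
      · refine ⟨3, ?_⟩
        have : ((e * ρ⁻¹) ^ 3) ((ρ ^ 2) y) = ρ⁻¹ y := by
          have q : ((e * ρ⁻¹) ^ 3) ((ρ ^ 2) y)
              = (e * ρ⁻¹) ((e * ρ⁻¹) ((e * ρ⁻¹) ((ρ ^ 2) y))) := by
            rw [pow_succ, pow_succ, pow_one, Perm.mul_apply, Perm.mul_apply]
          rw [q, p2, p3, p0]
        rw [this]; exact hmF
      · refine ⟨2, ?_⟩
        have : ((e * ρ⁻¹) ^ 2) ((ρ ^ 3) y) = ρ⁻¹ y := by
          have q : ((e * ρ⁻¹) ^ 2) ((ρ ^ 3) y) = (e * ρ⁻¹) ((e * ρ⁻¹) ((ρ ^ 3) y)) := by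
            rw [pow_succ, pow_one, Perm.mul_apply]
          rw [q, p3, p0]
        rw [this]; exact hmF
    · exact ⟨0, by rw [pow_zero, Perm.one_apply]; exact hxF⟩
  obtain ⟨lam, hlam, hlamF, _, hfull⟩ := merge (e * ρ⁻¹) S F hπ hF
  have hfull' : FullOn (lam * e * ρ⁻¹) S := by rw [mul_assoc]; exact hfull
  have hS2 : 2 ≤ S.card := Finset.one_lt_card.mpr ⟨y, hy, ρ y, m1, d01⟩
  have hdisj : ∀ x, e x ≠ x → lam x = x := by
    intro x hx
    apply hlamF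
    by_contra hxF
    exact hx (heout x hxF)
  refine ⟨lam * e * ρ⁻¹, hfull', ?_⟩
  exact good_of_merge p hp hp2 ρ e lam S hScard hS2 hρsign (dswap_sign d02 d13)
    (dswap_sq d01 d03 d12.symm d23) (dswap_ne_one d01 d03 d02) hlam hdisj hfull'
    (cert_A1 ρ y hodd h5)

end Helper15

theorem caseA_one (p : ℕ) (hp : p.Prime) (hp2 : p ≠ 2) (w : Perm α)
    (hw : ∃ k : ℕ, orderOf w = p ^ k) (S : Finset α) (hS : Inv w S) (hScard : Odd S.card)
    (y : α) (hy : y ∈ S) (hy5 : 5 ≤ mp w y) :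
    ∃ σ : Perm α, FullOn σ S ∧ Good p σ (restr w S) := by
  classical
  have hρS : Inv (restr w S) S := restr_inv_mem w S hS
  have hρout : ∀ x, x ∉ S → restr w S x = x := fun x hx => restr_apply_not_mem w S x hx
  have hmp : mp (restr w S) y = mp w y := mp_restr w S hS y hy
  have h5 : 5 ≤ mp (restr w S) y := by rw [hmp]; exact hy5
  obtain ⟨i, hi⟩ := mp_prime_pow p hp w hw y
  have hpodd : Odd p := hp.odd_of_ne_two hp2
  have hodd : Odd (mp (restr w S) y) := by rw [hmp, hi]; exact hpodd.pow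
  have hρord : ∃ k : ℕ, orderOf (restr w S) = p ^ k := by
    obtain ⟨k, hk⟩ := hw
    have hdvd : orderOf (restr w S) ∣ p ^ k := hk ▸ orderOf_restr_dvd w S hS
    obtain ⟨j, -, hj⟩ := (Nat.dvd_prime_pow hp).mp hdvd
    exact ⟨j, hj⟩
  have hρsign : Perm.sign (restr w S) = 1 :=
    sign_eq_one_of_prime_pow p hp hp2 (restr w S) hρord
  exact Helper15.caseA_core p hp hp2 (restr w S) S hρS hρout hScard y hy hodd h5 hρsign

end Cfsg.Agent.Lib.Helper14.S2276
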