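import Cfsg.Agent.Lib.Helper14.S2276.Merge
import Cfsg.Agent.Lib.Helper14.S2276.Extract
import Cfsg.Agent.Lib.Helper14.S2276.CertA
import Cfsg.Agent.Lib.Helper14.S2276.CaseA1

/-! # (piece [A2] of this file)  # S2276 farm, pieces [A1], [A2], [A3]: the block `S` contains an orbit of size `≥ 5`.

Notation: `ρ = restr w S`, `y_i = ρ^i y = w^i y`.

[A1] `e = (y_0 y_2)(y_1 y_3)`, `π = e * ρ⁻¹`, `F = {y_0,..,y_3}`; `π` maps
`y_4 ↦ y_1 ↦ y_2 ↦ y_3 ↦ y_0 ↦ y_{-1}`, so every point of `F` reaches `y_{-1} ∉ F` (orbit size ≥ 5)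
and `π = ρ⁻¹` on orbits not meeting `F`; `merge` gives `lam`, `σ = lam * e * ρ⁻¹`,
`good_of_merge` + `cert_A1` (for `ρ`; note `mp ρ y = mp w y` is odd, a power of the odd `p`).

[A2] orbit size `≥ 9`: `merge` for `π = ρ⁻¹`, `F = {y_0,..,y_6}` gives `lam`, `σ₀ = lam * ρ⁻¹`;
`κ₁ = (y_1 y_3)`, `κ₂ = (y_1 y_5)(y_2 y_6)`; `σ_i = κ_i σ₀ κ_i⁻¹ = lam * e_i * ρ⁻¹` with
`e_i = κ_i ρ⁻¹ κ_i⁻¹ ρ`: `e₁ = (y_1 y_3)(y_0 y_2)`, `e₂ = (y_2 y_6)(y_0 y_4)`;
`good_of_merge` with `cert_A1`, `cert_A1_sq`; `κ = κ₂ κ₁⁻¹` is odd.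

[A3] `S` is the orbit of `y`, of prime size `p ≥ 5`: `σ₀ = ρ⁻¹`, `σ_i = κ_i ρ⁻¹ κ_i⁻¹`,
`σ_i ρ = e_i`; `κ₁ = (y_1 y_3)`; `κ₂ = (y_1 y_5)(y_2 y_6)` if `p ≥ 7` and
`κ₂ = (y_1 y_2 y_3)`, `e₂` a 3-cycle, if `p = 5`.  No merging: `Good` directly
(`e_i` has order 2 or 3, not a power of `p`; `e_i ∈ ⟨σ_i, ρ⟩`, certificate for `⟨ρ, e_i⟩`). -/

set_option autoImplicit false
set_option linter.unusedSectionVars false

namespace Cfsg.Agent.Lib.Helper14.S2276

open Equiv Equiv.Perm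

variable {α : Type*} [Fintype α] [DecidableEq α]

namespace Helper15

/-- `FullOn` is preserved by conjugation with a permutation supported on `S`. -/
theorem fullOn_conj (σ κ : Perm α) (S : Finset α) (h : FullOn σ S)
    (hκ : ∀ x, x ∉ S → κ x = x) : FullOn (κ * σ * κ⁻¹) S := by
  have hκS : ∀ x, x ∈ S → κ⁻¹ x ∈ S := by
    intro x hx
    by_contra hn
    have h1 := hκ _ hn
    rw [apply_inv'] at h1
    rw [← h1] at hn
    exact hn hx
  have hκout : ∀ x, x ∉ S → κ⁻¹ x = x := by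
    intro x hx
    rw [Perm.inv_eq_iff_eq]; exact (hκ x hx).symm
  constructor
  · intro x hx
    rw [Perm.mul_apply, Perm.mul_apply, hκout x hx, h.1 x hx, hκ x hx]
  · intro x hx z hz
    rw [sameCycle_conj]
    exact h.2 _ (hκS x hx) _ (hκS z hz)

theorem mul_swap_comm_of_fixed (lam : Perm α) {a b : α} (ha : lam a = a) (hb : lam b = b) :
    lam * swap a b = swap a b * lam := by
  have h := swap_apply_apply lam a b
  rw [ha, hb] at h
  calc lam * swap a b = (lam * swap a b * lam⁻¹) * lam := by group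
    _ = swap a b * lam := by rw [← h]

theorem inv_mul_swap (ρ : Perm α) (a b : α) :
    ρ⁻¹ * swap a b = swap (ρ⁻¹ a) (ρ⁻¹ b) * ρ⁻¹ := by
  rw [swap_apply_apply ρ⁻¹ a b]; group

theorem dswap_disj (lam : Perm α) {a b c d : α} (ha : lam a = a) (hb : lam b = b)
    (hc : lam c = c) (hd : lam d = d) :
    ∀ x, (swap a c * swap b d) x ≠ x → lam x = x := by
  intro x hx
  by_cases h1 : x = a
  · rw [h1]; exact ha
  by_cases h2 : x = b
  · rw [h2]; exact hb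
  by_cases h3 : x = c
  · rw [h3]; exact hc
  by_cases h4 : x = d
  · rw [h4]; exact hd
  exact absurd (dswap_apply_of_ne h1 h2 h3 h4) hx

/-- First conjugation identity: `κ₁ = (b d)`, `e₁ = (a c)(b d)`. -/
theorem conj_one (lam ρ : Perm α) {a b c d : α} (hρb : ρ⁻¹ b = a) (hρd : ρ⁻¹ d = c)
    (hlb : lam b = b) (hld : lam d = d)
    (hab : a ≠ b) (had : a ≠ d) (hcb : c ≠ b) (hcd : c ≠ d) :
    swap b d * (lam * ρ⁻¹) * (swap b d)⁻¹ = lam * (swap a c * swap b d) * ρ⁻¹ := by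
  have hc : swap b d * lam = lam * swap b d := (mul_swap_comm_of_fixed lam hlb hld).symm
  have hr : ρ⁻¹ * swap b d = swap a c * ρ⁻¹ := by rw [inv_mul_swap, hρb, hρd]
  have hcomm : swap b d * swap a c = swap a c * swap b d :=
    (swap_comm_swap hab had hcb hcd).symm
  calc swap b d * (lam * ρ⁻¹) * (swap b d)⁻¹
      = swap b d * lam * (ρ⁻¹ * swap b d) := by rw [swap_inv]; group
    _ = swap b d * lam * (swap a c * ρ⁻¹) := by rw [hr]
    _ = (swap b d * lam) * swap a c * ρ⁻¹ := by group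
    _ = (lam * swap b d) * swap a c * ρ⁻¹ := by rw [hc]
    _ = lam * (swap b d * swap a c) * ρ⁻¹ := by group
    _ = lam * (swap a c * swap b d) * ρ⁻¹ := by rw [hcomm]

/-- Second conjugation identity: `κ₂ = (b f)(c g)`, `e₂ = (a e)(c g)`. -/
theorem conj_two (lam ρ : Perm α) {a b c e f g : α}
    (hρc : ρ⁻¹ c = b) (hρg : ρ⁻¹ g = f) (hρb : ρ⁻¹ b = a) (hρf : ρ⁻¹ f = e)
    (hlb : lam b = b) (hlf : lam f = f) (hlc : lam c = c) (hlg : lam g = g)
    (hbc : b ≠ c) (hbg : b ≠ g) (hfc : f ≠ c) (hfg : f ≠ g)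
    (hac : a ≠ c) (hag : a ≠ g) (hec : e ≠ c) (heg : e ≠ g) :
    (swap b f * swap c g) * (lam * ρ⁻¹) * (swap b f * swap c g)⁻¹
      = lam * (swap a e * swap c g) * ρ⁻¹ := by
  have hcl1 : swap b f * lam = lam * swap b f := (mul_swap_comm_of_fixed lam hlb hlf).symm
  have hcl2 : swap c g * lam = lam * swap c g := (mul_swap_comm_of_fixed lam hlc hlg).symm
  have hr1 : ρ⁻¹ * swap c g = swap b f * ρ⁻¹ := by rw [inv_mul_swap, hρc, hρg]
  have hr2 : ρ⁻¹ * swap b f = swap a e * ρ⁻¹ := by rw [inv_mul_swap, hρb, hρf]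
  have hk : swap c g * swap b f = swap b f * swap c g :=
    (swap_comm_swap hbc hbg hfc hfg).symm
  have hk2 : swap c g * swap a e = swap a e * swap c g :=
    (swap_comm_swap hac hag hec heg).symm
  calc (swap b f * swap c g) * (lam * ρ⁻¹) * (swap b f * swap c g)⁻¹
      = swap b f * swap c g * lam * (ρ⁻¹ * swap c g) * swap b f := by
        rw [mul_inv_rev, swap_inv, swap_inv]; group
    _ = swap b f * swap c g * lam * (swap b f * ρ⁻¹) * swap b f := by rw [hr1]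
    _ = swap b f * swap c g * lam * swap b f * (ρ⁻¹ * swap b f) := by group
    _ = swap b f * swap c g * lam * swap b f * (swap a e * ρ⁻¹) := by rw [hr2]
    _ = swap b f * (swap c g * lam) * swap b f * swap a e * ρ⁻¹ := by group
    _ = swap b f * (lam * swap c g) * swap b f * swap a e * ρ⁻¹ := by rw [hcl2]
    _ = (swap b f * lam) * (swap c g * swap b f) * swap a e * ρ⁻¹ := by group
    _ = (lam * swap b f) * (swap b f * swap c g) * swap a e * ρ⁻¹ := by rw [hcl1, hk]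
    _ = lam * (swap b f * swap b f) * (swap c g * swap a e) * ρ⁻¹ := by group
    _ = lam * (swap c g * swap a e) * ρ⁻¹ := by rw [swap_mul_self, mul_one]
    _ = lam * (swap a e * swap c g) * ρ⁻¹ := by rw [hk2]

/-- The group-theoretic core of [A2], for abstract points `Y 0, …, Y 6`. -/
theorem caseA2_abstract (p : ℕ) (hp : p.Prime) (hp2 : p ≠ 2) (ρ lam : Perm α) (S : Finset α)
    (Y : ℕ → α) (hScard : Odd S.card) (hS2 : 2 ≤ S.card) (hρsign : Perm.sign ρ = 1)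
    (hYS : ∀ i, i < 7 → Y i ∈ S)
    (hY : ∀ i, i < 6 → ρ⁻¹ (Y (i + 1)) = Y i)
    (hne : ∀ i j, i < j → j < 7 → Y i ≠ Y j)
    (hlam : lam = 1 ∨ lam.IsCycle) (hlamY : ∀ i, i < 7 → lam (Y i) = Y i)
    (hfull : FullOn (lam * ρ⁻¹) S)
    (hc1 : ¬ Group.IsSolvable (Subgroup.closure
      ({ρ, swap (Y 0) (Y 2) * swap (Y 1) (Y 3)} : Set (Perm α))))
    (hc2 : ¬ Group.IsSolvable (Subgroup.closure
      ({ρ, swap (Y 0) (Y 4) * swap (Y 2) (Y 6)} : Set (Perm α)))) :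
    ∃ σ₁ σ₂ κ : Perm α, FullOn σ₁ S ∧ Good p σ₁ ρ ∧ Good p σ₂ ρ ∧
      σ₂ = κ * σ₁ * κ⁻¹ ∧ Perm.sign κ = -1 ∧ (∀ x, x ∉ S → κ x = x) := by
  classical
  have n (i j : ℕ) (hij : i < j) (hj : j < 7) : Y i ≠ Y j := hne i j hij hj
  have n' (i j : ℕ) (hij : i < j) (hj : j < 7) : Y j ≠ Y i := (hne i j hij hj).symm
  have outS : ∀ i, i < 7 → ∀ x, x ∉ S → x ≠ Y i := by
    intro i hi x hx h
    exact hx (h ▸ hYS i hi)
  -- the two conjugators fix the complement of `S`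
  have hκ1 : ∀ x, x ∉ S → (swap (Y 1) (Y 3)) x = x := fun x hx =>
    swap_apply_of_ne_of_ne (outS 1 (by omega) x hx) (outS 3 (by omega) x hx)
  have hκ2 : ∀ x, x ∉ S → (swap (Y 1) (Y 5) * swap (Y 2) (Y 6)) x = x := fun x hx => by
    rw [Perm.mul_apply,
      swap_apply_of_ne_of_ne (outS 2 (by omega) x hx) (outS 6 (by omega) x hx),
      swap_apply_of_ne_of_ne (outS 1 (by omega) x hx) (outS 5 (by omega) x hx)]
  have id1 : swap (Y 1) (Y 3) * (lam * ρ⁻¹) * (swap (Y 1) (Y 3))⁻¹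
      = lam * (swap (Y 0) (Y 2) * swap (Y 1) (Y 3)) * ρ⁻¹ :=
    conj_one lam ρ (hY 0 (by omega)) (hY 2 (by omega)) (hlamY 1 (by omega)) (hlamY 3 (by omega))
      (n 0 1 (by omega) (by omega)) (n 0 3 (by omega) (by omega))
      (n' 1 2 (by omega) (by omega)) (n 2 3 (by omega) (by omega))
  have id2 : (swap (Y 1) (Y 5) * swap (Y 2) (Y 6)) * (lam * ρ⁻¹)
        * (swap (Y 1) (Y 5) * swap (Y 2) (Y 6))⁻¹
      = lam * (swap (Y 0) (Y 4) * swap (Y 2) (Y 6)) * ρ⁻¹ :=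
    conj_two lam ρ (hY 1 (by omega)) (hY 5 (by omega)) (hY 0 (by omega)) (hY 4 (by omega))
      (hlamY 1 (by omega)) (hlamY 5 (by omega)) (hlamY 2 (by omega)) (hlamY 6 (by omega))
      (n 1 2 (by omega) (by omega)) (n 1 6 (by omega) (by omega))
      (n' 2 5 (by omega) (by omega)) (n 5 6 (by omega) (by omega))
      (n 0 2 (by omega) (by omega)) (n 0 6 (by omega) (by omega))
      (n' 2 4 (by omega) (by omega)) (n 4 6 (by omega) (by omega))
  have full1 : FullOn (swap (Y 1) (Y 3) * (lam * ρ⁻¹) * (swap (Y 1) (Y 3))⁻¹) S :=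
    fullOn_conj _ _ S hfull hκ1
  have full2 : FullOn ((swap (Y 1) (Y 5) * swap (Y 2) (Y 6)) * (lam * ρ⁻¹)
        * (swap (Y 1) (Y 5) * swap (Y 2) (Y 6))⁻¹) S :=
    fullOn_conj _ _ S hfull hκ2
  have good1 : Good p (swap (Y 1) (Y 3) * (lam * ρ⁻¹) * (swap (Y 1) (Y 3))⁻¹) ρ := by
    rw [id1] at full1 ⊢
    exact good_of_merge p hp hp2 ρ _ lam S hScard hS2 hρsign
      (dswap_sign (n 0 2 (by omega) (by omega)) (n 1 3 (by omega) (by omega)))
      (dswap_sq (n 0 1 (by omega) (by omega)) (n 0 3 (by omega) (by omega))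
        (n' 1 2 (by omega) (by omega)) (n 2 3 (by omega) (by omega)))
      (dswap_ne_one (n 0 1 (by omega) (by omega)) (n 0 3 (by omega) (by omega))
        (n 0 2 (by omega) (by omega)))
      hlam
      (dswap_disj lam (hlamY 0 (by omega)) (hlamY 1 (by omega)) (hlamY 2 (by omega))
        (hlamY 3 (by omega)))
      full1 hc1
  have good2 : Good p ((swap (Y 1) (Y 5) * swap (Y 2) (Y 6)) * (lam * ρ⁻¹)
        * (swap (Y 1) (Y 5) * swap (Y 2) (Y 6))⁻¹) ρ := by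
    rw [id2] at full2 ⊢
    exact good_of_merge p hp hp2 ρ _ lam S hScard hS2 hρsign
      (dswap_sign (n 0 4 (by omega) (by omega)) (n 2 6 (by omega) (by omega)))
      (dswap_sq (n 0 2 (by omega) (by omega)) (n 0 6 (by omega) (by omega))
        (n' 2 4 (by omega) (by omega)) (n 4 6 (by omega) (by omega)))
      (dswap_ne_one (n 0 2 (by omega) (by omega)) (n 0 6 (by omega) (by omega))
        (n 0 4 (by omega) (by omega)))
      hlam
      (dswap_disj lam (hlamY 0 (by omega)) (hlamY 2 (by omega)) (hlamY 4 (by omega))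
        (hlamY 6 (by omega)))
      full2 hc2
  refine ⟨swap (Y 1) (Y 3) * (lam * ρ⁻¹) * (swap (Y 1) (Y 3))⁻¹,
    (swap (Y 1) (Y 5) * swap (Y 2) (Y 6)) * (lam * ρ⁻¹) * (swap (Y 1) (Y 5) * swap (Y 2) (Y 6))⁻¹,
    (swap (Y 1) (Y 5) * swap (Y 2) (Y 6)) * (swap (Y 1) (Y 3))⁻¹,
    full1, good1, good2, ?_, ?_, ?_⟩
  · group
  · rw [Perm.sign_mul, Perm.sign_mul, Perm.sign_inv,
      Perm.sign_swap (n 1 5 (by omega) (by omega)), Perm.sign_swap (n 2 6 (by omega) (by omega)),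
      Perm.sign_swap (n 1 3 (by omega) (by omega))]
    decide
  · intro x hx
    rw [Perm.mul_apply, swap_inv, hκ1 x hx, hκ2 x hx]

/-- The core of [A2], stated for a permutation `ρ` supported on `S`. -/
theorem caseA2_core (p : ℕ) (hp : p.Prime) (hp2 : p ≠ 2) (ρ : Perm α) (S : Finset α)
    (hρS : Inv ρ S) (hρout : ∀ x, x ∉ S → ρ x = x) (hScard : Odd S.card)
    (y : α) (hy : y ∈ S) (hodd : Odd (mp ρ y)) (h9 : 9 ≤ mp ρ y) (hρsign : Perm.sign ρ = 1) :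
    ∃ σ₁ σ₂ κ : Perm α, FullOn σ₁ S ∧ Good p σ₁ ρ ∧ Good p σ₂ ρ ∧
      σ₂ = κ * σ₁ * κ⁻¹ ∧ Perm.sign κ = -1 ∧ (∀ x, x ∉ S → κ x = x) := by
  classical
  have e0 : (ρ ^ 0) y = y := by rw [pow_zero, Perm.one_apply]
  have e1 : (ρ ^ 1) y = ρ y := by rw [pow_one]
  let F : Finset α := (Finset.range 7).image (fun i => (ρ ^ i) y)
  have hmF : ρ⁻¹ y ∉ F := by
    intro h
    obtain ⟨j, hj, hjeq⟩ := Finset.mem_image.mp h
    have hj7 : j < 7 := Finset.mem_range.mp hj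
    exact inv_ne_pow ρ y (i := j) (by omega) hjeq.symm
  have hπ : ∀ x, x ∉ S → ρ⁻¹ x = x := by
    intro x hx
    rw [Perm.inv_eq_iff_eq]; exact (hρout x hx).symm
  have key : ∀ i : ℕ, ((ρ⁻¹) ^ (i + 1)) ((ρ ^ i) y) = ρ⁻¹ y := by
    intro i
    rw [← Perm.mul_apply]
    congr 1
    rw [pow_succ', mul_assoc, inv_pow, inv_mul_cancel, mul_one]
  have hF : ∀ x ∈ S, ∃ k : ℕ, ((ρ⁻¹) ^ k) x ∉ F := by
    intro x _
    by_cases hxF : x ∈ F
    · obtain ⟨i, _, rfl⟩ := Finset.mem_image.mp hxF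
      exact ⟨i + 1, by rw [key i]; exact hmF⟩
    · exact ⟨0, by rw [pow_zero, Perm.one_apply]; exact hxF⟩
  obtain ⟨lam, hlam, hlamF, _, hfull⟩ := merge ρ⁻¹ S F hπ hF
  have m1 : ρ y ∈ S := (hρS y).mpr hy
  have d01 : y ≠ ρ y := by
    have := pow_ne_of_lt ρ y (i := 0) (j := 1) (by omega) (by omega); rwa [e0, e1] at this
  have hS2 : 2 ≤ S.card := Finset.one_lt_card.mpr ⟨y, hy, ρ y, m1, d01⟩
  have hc1 : ¬ Group.IsSolvable (Subgroup.closure
      ({ρ, swap ((ρ ^ 0) y) ((ρ ^ 2) y) * swap ((ρ ^ 1) y) ((ρ ^ 3) y)} : Set (Perm α))) := by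
    rw [e0, e1]; exact cert_A1 ρ y hodd (by omega)
  have hc2 : ¬ Group.IsSolvable (Subgroup.closure
      ({ρ, swap ((ρ ^ 0) y) ((ρ ^ 4) y) * swap ((ρ ^ 2) y) ((ρ ^ 6) y)} : Set (Perm α))) := by
    rw [e0]; exact cert_A1_sq ρ y hodd (by omega)
  exact caseA2_abstract p hp hp2 ρ lam S (fun i => (ρ ^ i) y) hScard hS2 hρsign
    (fun i _ => pow_mem_of_inv ρ S hρS y hy i)
    (fun i _ => inv_pow_succ_apply ρ y i)
    (fun i j hij hj => pow_ne_of_lt ρ y hij (by omega))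
    hlam
    (fun i hi => hlamF _ (Finset.mem_image.mpr ⟨i, Finset.mem_range.mpr hi, rfl⟩))
    hfull hc1 hc2

end Helper15

theorem caseA_two (p : ℕ) (hp : p.Prime) (hp2 : p ≠ 2) (w : Perm α)
    (hw : ∃ k : ℕ, orderOf w = p ^ k) (S : Finset α) (hS : Inv w S) (hScard : Odd S.card)
    (y : α) (hy : y ∈ S) (hy9 : 9 ≤ mp w y) :
    ∃ σ₁ σ₂ κ : Perm α, FullOn σ₁ S ∧ Good p σ₁ (restr w S) ∧ Good p σ₂ (restr w S) ∧
      σ₂ = κ * σ₁ * κ⁻¹ ∧ Perm.sign κ = -1 ∧ (∀ x, x ∉ S → κ x = x) := by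
  classical
  have hρS : Inv (restr w S) S := restr_inv_mem w S hS
  have hρout : ∀ x, x ∉ S → restr w S x = x := fun x hx => restr_apply_not_mem w S x hx
  have hmp : mp (restr w S) y = mp w y := mp_restr w S hS y hy
  have h9 : 9 ≤ mp (restr w S) y := by rw [hmp]; exact hy9
  obtain ⟨i, hi⟩ := mp_prime_pow p hp w hw y
  have hpodd : Odd p := hp.odd_of_ne_two hp2
  have hodd : Odd (mp (restr w S) y) := by rw [hmp, hi]; exact hpodd.pow
  have hρord : ∃ k : ℕ, orderOf (restr w S) = p ^ k := by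
    obtain ⟨k, hk⟩ := hw
    have hdvd : orderOf (restr w S) ∣ p ^ k := hk ▸ orderOf_restr_dvd w S hS
    obtain ⟨j, -, hj⟩ := (Nat.dvd_prime_pow hp).mp hdvd
    exact ⟨j, hj⟩
  have hρsign : Perm.sign (restr w S) = 1 :=
    sign_eq_one_of_prime_pow p hp hp2 (restr w S) hρord
  exact Helper15.caseA2_core p hp hp2 (restr w S) S hρS hρout hScard y hy hodd h9 hρsign

end Cfsg.Agent.Lib.Helper14.S2276
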