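import Cfsg.Agent.Lib.Helper14.S2276.CertA

/-! # (piece [A3] of this file)  # S2276 farm, pieces [A1], [A2], [A3]: the block `S` contains an orbit of size `≥ 5`.

Notation: `ρ = restr w S`, `y_i = ρ^i y = w^i y`.

[A1] `e = (y_0 y_2)(y_1 y_3)`, `π = e * ρ⁻¹`, `F = {y_0,..,y_3}`; `π` maps
`y_4 ↦ y_1 ↦ y_2 ↦ y_3 ↦ y_0 ↦ y_{-1}`, so every point of `F` reaches `y_{-1} ∉ F` (orbit size ≥ 5)
and `π = ρ⁻¹` on orbits not meeting `F`; `merge` gives `lam`, `σ = lam * e * ρ⁻¹`,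
`good_of_merge` + `cert_A1` (for `ρ`; note `mp ρ y = mp w y` is odd, a power of the odd `p`).

[A2] orbit size `≥ 9`: `merge` for `π = ρ⁻¹`, `F = {y_0,..,y_6}` gives `lam`, `σ₀ = lam * ρ⁻¹`;
`κ₁ = (y_1 y_3)`, `κ₂ = (y_1 y_5)(y_2 y_6)`; `σ_i = κ_i σ₀ κ_i⁻¹ = lam * e_i * ρ⁻¹` with
`e_i = κ_i ρ⁻¹ κ_i⁻¹ ρ`: `e₁ = (y_1 y_3)(y_0 y_2)`, `e₂ = (y_2 y_6)(y_0 y_4)`;
`good_of_merge` with `cert_A1`, `cert_A1_sq`; `κ = κ₂ κ₁⁻¹` is odd.

[A3] `S` is the orbit of `y`, of prime size `p ≥ 5`: `σ₀ = ρ⁻¹`, `σ_i = κ_i ρ⁻¹ κ_i⁻¹`,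
`σ_i ρ = e_i`; `κ₁ = (y_1 y_3)`; `κ₂ = (y_1 y_5)(y_2 y_6)` if `p ≥ 7` and
`κ₂ = (y_1 y_2 y_3)`, `e₂` a 3-cycle, if `p = 5`.  No merging: `Good` directly
(`e_i` has order 2 or 3, not a power of `p`; `e_i ∈ ⟨σ_i, ρ⟩`, certificate for `⟨ρ, e_i⟩`). -/

set_option autoImplicit false

namespace Cfsg.Agent.Lib.Helper14.S2276

open Equiv Equiv.Perm

variable {α : Type*} [Fintype α] [DecidableEq α]

namespace Helper24

open scoped commutatorElement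

/-- `f` is the identity outside `S`. -/
def FixOut (f : Perm α) (S : Finset α) : Prop := ∀ x, x ∉ S → f x = x

omit [Fintype α] in
theorem fixOut_swap (S : Finset α) (a b : α) (ha : a ∈ S) (hb : b ∈ S) : FixOut (swap a b) S := by
  intro x hx
  apply swap_apply_of_ne_of_ne
  · rintro rfl; exact hx ha
  · rintro rfl; exact hx hb

omit [Fintype α] [DecidableEq α] in
theorem fixOut_mul (f g : Perm α) (S : Finset α) (hf : FixOut f S) (hg : FixOut g S) :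
    FixOut (f * g) S := by
  intro x hx
  rw [Perm.mul_apply, hg x hx, hf x hx]

omit [Fintype α] [DecidableEq α] in
theorem fixOut_inv (f : Perm α) (S : Finset α) (hf : FixOut f S) : FixOut f⁻¹ S := by
  intro x hx
  rw [Perm.inv_eq_iff_eq, hf x hx]

omit [Fintype α] [DecidableEq α] in
theorem inv_of_fixOut (f : Perm α) (S : Finset α) (hf : FixOut f S) : Inv f S := by
  intro x
  constructor
  · intro h
    by_contra hx
    rw [hf x hx] at h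
    exact hx h
  · intro h
    by_contra hx
    have h2 : f (f x) = f x := hf _ hx
    have h3 : f x = x := f.injective h2
    rw [h3] at hx
    exact hx h

omit [DecidableEq α] in
/-- Conjugating the inverse of a full cycle on `S` by a permutation supported in `S`. -/
theorem fullOn_conj_inv (ρ κ : Perm α) (S : Finset α) (hρ : FullOn ρ S) (hκ : FixOut κ S) :
    FullOn (κ * ρ⁻¹ * κ⁻¹) S := by
  have hκi : FixOut κ⁻¹ S := fixOut_inv κ S hκ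
  have hInv : Inv κ⁻¹ S := inv_of_fixOut _ S hκi
  have hρi : FixOut ρ⁻¹ S := fixOut_inv ρ S hρ.1
  refine ⟨?_, ?_⟩
  · intro x hx
    rw [Perm.mul_apply, Perm.mul_apply, hκi x hx, hρi x hx, hκ x hx]
  · intro x hx z hz
    rw [sameCycle_conj, sameCycle_inv]
    exact hρ.2 _ ((hInv x).mpr hx) _ ((hInv z).mpr hz)

omit [Fintype α] [DecidableEq α] in
theorem inv_pow_succ_apply (ρ : Perm α) (y : α) (i : ℕ) :
    ρ⁻¹ ((ρ ^ (i + 1)) y) = (ρ ^ i) y := by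
  rw [pow_succ', Perm.mul_apply]; exact Equiv.symm_apply_apply ρ _

omit [Fintype α] in
theorem conj_swap (ρ : Perm α) (y : α) (i j : ℕ) :
    ρ⁻¹ * swap ((ρ ^ (i + 1)) y) ((ρ ^ (j + 1)) y) * ρ = swap ((ρ ^ i) y) ((ρ ^ j) y) := by
  have h := Equiv.swap_apply_apply ρ⁻¹ ((ρ ^ (i + 1)) y) ((ρ ^ (j + 1)) y)
  rw [inv_pow_succ_apply, inv_pow_succ_apply, inv_inv] at h
  exact h.symm

/-- The window `i ↦ ρ^i y` for `i < n ≤` orbit size. -/
noncomputable def win (ρ : Perm α) (y : α) (n : ℕ) (hn : n ≤ mp ρ y) : Fin n ↪ α :=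
  ⟨fun i => (ρ ^ (i : ℕ)) y, fun i j h => by
    have h1 := (pow_apply_eq_iff ρ y i j).mp h
    exact Fin.ext (Nat.ModEq.eq_of_lt_of_lt h1 (lt_of_lt_of_le i.2 hn) (lt_of_lt_of_le j.2 hn))⟩

theorem win_apply (ρ : Perm α) (y : α) (n : ℕ) (hn : n ≤ mp ρ y) (i : Fin n) :
    win ρ y n hn i = (ρ ^ (i : ℕ)) y := rfl

theorem via_swap {β : Type*} [Fintype β] [DecidableEq β] (ι : β ↪ α) (i j : β) :
    viaEmbeddingHom ι (swap i j) = swap (ι i) (ι j) := by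
  ext x
  by_cases hx : x ∈ Set.range ι
  · obtain ⟨k, rfl⟩ := hx
    rw [viaEmbeddingHom_apply, viaEmbedding_apply]
    exact (ι.injective.swap_apply i j k).symm
  · rw [viaEmbeddingHom_apply, viaEmbedding_apply_of_notMem _ _ _ hx]
    rw [swap_apply_of_ne_of_ne]
    · rintro rfl; exact hx ⟨_, rfl⟩
    · rintro rfl; exact hx ⟨_, rfl⟩

theorem via_swap_win (ρ : Perm α) (y : α) (n : ℕ) (hn : n ≤ mp ρ y) (i j : Fin n) :
    viaEmbeddingHom (win ρ y n hn) (swap i j) = swap ((ρ ^ (i : ℕ)) y) ((ρ ^ (j : ℕ)) y) := by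
  rw [via_swap]; rfl

theorem not_ppow (p : ℕ) (hp5 : 5 ≤ p) (m : ℕ) (hm : m = 2 ∨ m = 3) : ¬ ∃ k : ℕ, m = p ^ k := by
  rintro ⟨k, hk⟩
  rcases Nat.eq_zero_or_pos k with h0 | hpos
  · rw [h0, pow_zero] at hk; omega
  · have hdvd : p ∣ m := by rw [hk]; exact dvd_pow_self p (by omega)
    have : p ≤ m := Nat.le_of_dvd (by omega) hdvd
    omega

theorem fullOn_restr (w : Perm α) (S : Finset α) (hS : Inv w S) (y : α) (hy : y ∈ S)
    (hcard : S.card = mp w y) : FullOn (restr w S) S := by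
  have hρS : Inv (restr w S) S := restr_inv_mem w S hS
  have hmp : mp (restr w S) y = mp w y := mp_restr w S hS y hy
  obtain ⟨T, hT, hTcard, hyT, hTsc⟩ := exists_orbit_finset (restr w S) y
  have hpow : ∀ k : ℕ, ((restr w S) ^ k) y ∈ S := by
    intro k
    induction k with
    | zero => simpa using hy
    | succ k ih => rw [pow_succ', Perm.mul_apply]; exact (hρS _).mpr ih
  have hTS : T ⊆ S := by
    intro z hz
    obtain ⟨i, hi⟩ := (hTsc y hyT z hz).exists_nat_pow_eq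
    rw [← hi]; exact hpow i
  have hTeq : T = S := Finset.eq_of_subset_of_card_le hTS (by rw [hTcard, hmp, hcard])
  refine ⟨fun x hx => restr_apply_not_mem w S x hx, ?_⟩
  intro a ha b hb
  rw [← hTeq] at ha hb
  exact hTsc a ha b hb

theorem pow_mem_of_fullOn (ρ : Perm α) (S : Finset α) (hρ : FullOn ρ S) (y : α) (hy : y ∈ S)
    (k : ℕ) : (ρ ^ k) y ∈ S := by
  have hInv : Inv ρ S := FullOn.inv_mem ρ S hρ
  induction k with
  | zero => simpa using hy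
  | succ k ih => rw [pow_succ', Perm.mul_apply]; exact (hInv _).mpr ih

/-- The first conjugate: `κ₁ = (y₁ y₃)`, `σ₁ ρ = (y₀ y₂)(y₁ y₃)`. -/
theorem sigma_one (ρ : Perm α) (y : α) (h5 : 5 ≤ mp ρ y) :
    swap ((ρ ^ 1) y) ((ρ ^ 3) y) * ρ⁻¹ * (swap ((ρ ^ 1) y) ((ρ ^ 3) y))⁻¹ * ρ
      = swap y ((ρ ^ 2) y) * swap (ρ y) ((ρ ^ 3) y) := by
  have c1 : ρ⁻¹ * swap ((ρ ^ 1) y) ((ρ ^ 3) y) * ρ = swap ((ρ ^ 0) y) ((ρ ^ 2) y) :=
    conj_swap ρ y 0 2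
  have e1 : swap ((ρ ^ 1) y) ((ρ ^ 3) y) * ρ⁻¹ * (swap ((ρ ^ 1) y) ((ρ ^ 3) y))⁻¹ * ρ
      = swap ((ρ ^ 1) y) ((ρ ^ 3) y) * (ρ⁻¹ * swap ((ρ ^ 1) y) ((ρ ^ 3) y) * ρ) := by
    rw [swap_inv]; simp only [mul_assoc]
  rw [e1, c1]
  have key : (swap (1 : Fin 5) 3 * swap 0 2) = swap 0 2 * swap 1 3 := by decide
  have := congrArg (viaEmbeddingHom (win ρ y 5 h5)) key
  simp only [map_mul, via_swap_win] at this
  simpa using this

theorem order_e_one (ρ : Perm α) (y : α) (h5 : 5 ≤ mp ρ y) :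
    orderOf (swap y ((ρ ^ 2) y) * swap (ρ y) ((ρ ^ 3) y)) = 2 := by
  have h2 : orderOf (swap (0 : Fin 5) 2 * swap 1 3) = 2 := by
    have : Fact (Nat.Prime 2) := ⟨Nat.prime_two⟩
    exact orderOf_eq_prime (by decide) (by decide)
  have := orderOf_injective (viaEmbeddingHom (win ρ y 5 h5)) (viaEmbeddingHom_injective _)
    (swap (0 : Fin 5) 2 * swap 1 3)
  rw [h2] at this
  simp only [map_mul, via_swap_win] at this
  simpa using this

/-- The second conjugate for orbit size `≥ 7`: `κ₂ = (y₁ y₅)(y₂ y₆)`, `σ₂ ρ = (y₀ y₄)(y₂ y₆)`. -/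
theorem sigma_two7 (ρ : Perm α) (y : α) (h7 : 7 ≤ mp ρ y) :
    (swap ((ρ ^ 1) y) ((ρ ^ 5) y) * swap ((ρ ^ 2) y) ((ρ ^ 6) y)) * ρ⁻¹ *
      (swap ((ρ ^ 1) y) ((ρ ^ 5) y) * swap ((ρ ^ 2) y) ((ρ ^ 6) y))⁻¹ * ρ
      = swap y ((ρ ^ 4) y) * swap ((ρ ^ 2) y) ((ρ ^ 6) y) := by
  have c1 : ρ⁻¹ * swap ((ρ ^ 1) y) ((ρ ^ 5) y) * ρ = swap ((ρ ^ 0) y) ((ρ ^ 4) y) :=
    conj_swap ρ y 0 4
  have c2 : ρ⁻¹ * swap ((ρ ^ 2) y) ((ρ ^ 6) y) * ρ = swap ((ρ ^ 1) y) ((ρ ^ 5) y) :=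
    conj_swap ρ y 1 5
  have e1 : (swap ((ρ ^ 1) y) ((ρ ^ 5) y) * swap ((ρ ^ 2) y) ((ρ ^ 6) y)) * ρ⁻¹ *
      (swap ((ρ ^ 1) y) ((ρ ^ 5) y) * swap ((ρ ^ 2) y) ((ρ ^ 6) y))⁻¹ * ρ
      = (swap ((ρ ^ 1) y) ((ρ ^ 5) y) * swap ((ρ ^ 2) y) ((ρ ^ 6) y)) *
        ((ρ⁻¹ * swap ((ρ ^ 1) y) ((ρ ^ 5) y) * ρ) *
          (ρ⁻¹ * swap ((ρ ^ 2) y) ((ρ ^ 6) y) * ρ))⁻¹ := by
    group
  rw [e1, c1, c2]
  have key : (swap (1 : Fin 7) 5 * swap 2 6) * (swap 0 4 * swap 1 5)⁻¹ = swap 0 4 * swap 2 6 := by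
    decide
  have := congrArg (viaEmbeddingHom (win ρ y 7 h7)) key
  simp only [map_mul, map_inv, via_swap_win] at this
  simpa using this

theorem order_e_two7 (ρ : Perm α) (y : α) (h7 : 7 ≤ mp ρ y) :
    orderOf (swap y ((ρ ^ 4) y) * swap ((ρ ^ 2) y) ((ρ ^ 6) y)) = 2 := by
  have h2 : orderOf (swap (0 : Fin 7) 4 * swap 2 6) = 2 := by
    have : Fact (Nat.Prime 2) := ⟨Nat.prime_two⟩
    exact orderOf_eq_prime (by decide) (by decide)
  have := orderOf_injective (viaEmbeddingHom (win ρ y 7 h7)) (viaEmbeddingHom_injective _)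
    (swap (0 : Fin 7) 4 * swap 2 6)
  rw [h2] at this
  simp only [map_mul, via_swap_win] at this
  simpa using this

end Helper24

namespace Helper24

open scoped commutatorElement

/-- A full cycle of length 5 is the image of `finRotate 5` under the window. -/
theorem eq_via_finRotate (ρ : Perm α) (S : Finset α) (hfull : FullOn ρ S) (y : α) (hy : y ∈ S)
    (h5 : 5 ≤ mp ρ y) (h5' : mp ρ y = 5) :
    ρ = viaEmbeddingHom (win ρ y 5 h5) (finRotate 5) := by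
  ext x
  by_cases hx : x ∈ Set.range (win ρ y 5 h5)
  · obtain ⟨i, rfl⟩ := hx
    rw [viaEmbeddingHom_apply, viaEmbedding_apply, win_apply, win_apply, ← Perm.mul_apply,
      ← pow_succ', pow_apply_eq_iff, h5']
    revert i
    decide
  · rw [viaEmbeddingHom_apply, viaEmbedding_apply_of_notMem _ _ _ hx]
    apply hfull.1
    intro hxS
    apply hx
    obtain ⟨k, hk⟩ := (hfull.2 y hy x hxS).exists_nat_pow_eq
    refine ⟨⟨k % 5, Nat.mod_lt _ (by norm_num)⟩, ?_⟩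
    rw [win_apply, ← hk, pow_apply_eq_iff, h5']
    exact Nat.mod_modEq k 5

set_option maxRecDepth 100000 in
theorem key5 : (finRotate 5 : Perm (Fin 5)) =
    ((swap 0 3 * swap 3 1) * (finRotate 5)⁻¹) *
      ⁅(finRotate 5 : Perm (Fin 5)), (swap 0 3 * swap 3 1) * finRotate 5 * (swap 0 3 * swap 3 1)⁻¹⁆ *
      ((swap 0 3 * swap 3 1) * (finRotate 5)⁻¹)⁻¹ := by decide

theorem sig5 : (swap (1 : Fin 5) 2 * swap 2 3) * (finRotate 5)⁻¹ * (swap (1 : Fin 5) 2 * swap 2 3)⁻¹ *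
    finRotate 5 = swap 0 3 * swap 3 1 := by decide

/-- `p = 5`: `κ₂ = (y₁ y₂ y₃)`, `σ₂ ρ = (y₀ y₃ y₁)`. -/
theorem sigma_two5 (ρ : Perm α) (S : Finset α) (hfull : FullOn ρ S) (y : α) (hy : y ∈ S)
    (h5 : 5 ≤ mp ρ y) (h5' : mp ρ y = 5) :
    (swap ((ρ ^ 1) y) ((ρ ^ 2) y) * swap ((ρ ^ 2) y) ((ρ ^ 3) y)) * ρ⁻¹ *
      (swap ((ρ ^ 1) y) ((ρ ^ 2) y) * swap ((ρ ^ 2) y) ((ρ ^ 3) y))⁻¹ * ρ
      = swap y ((ρ ^ 3) y) * swap ((ρ ^ 3) y) ((ρ ^ 1) y) := by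
  have hρ := eq_via_finRotate ρ S hfull y hy h5 h5'
  have := congrArg (viaEmbeddingHom (win ρ y 5 h5)) sig5
  simp only [map_mul, map_inv, via_swap_win, ← hρ] at this
  simpa using this

theorem order_e_two5 (ρ : Perm α) (y : α) (h5 : 5 ≤ mp ρ y) :
    orderOf (swap y ((ρ ^ 3) y) * swap ((ρ ^ 3) y) ((ρ ^ 1) y)) = 3 := by
  have h3 : orderOf (swap (0 : Fin 5) 3 * swap 3 1) = 3 := by
    have : Fact (Nat.Prime 3) := ⟨Nat.prime_three⟩
    exact orderOf_eq_prime (by decide) (by decide)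
  have := orderOf_injective (viaEmbeddingHom (win ρ y 5 h5)) (viaEmbeddingHom_injective _)
    (swap (0 : Fin 5) 3 * swap 3 1)
  rw [h3] at this
  simp only [map_mul, via_swap_win] at this
  simpa using this

theorem cert5 (ρ : Perm α) (S : Finset α) (hfull : FullOn ρ S) (y : α) (hy : y ∈ S)
    (h5 : 5 ≤ mp ρ y) (h5' : mp ρ y = 5) :
    ¬ Group.IsSolvable (Subgroup.closure
      ({ρ, swap y ((ρ ^ 3) y) * swap ((ρ ^ 3) y) ((ρ ^ 1) y)} : Set (Perm α))) := by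
  have hρ := eq_via_finRotate ρ S hfull y hy h5 h5'
  have key := congrArg (viaEmbeddingHom (win ρ y 5 h5)) key5
  simp only [map_mul, map_inv, map_commutatorElement, via_swap_win, ← hρ] at key
  have hρmem : ρ ∈ Subgroup.closure
      ({ρ, swap y ((ρ ^ 3) y) * swap ((ρ ^ 3) y) ((ρ ^ 1) y)} : Set (Perm α)) :=
    Subgroup.subset_closure (by simp)
  have hemem : swap y ((ρ ^ 3) y) * swap ((ρ ^ 3) y) ((ρ ^ 1) y) ∈ Subgroup.closure
      ({ρ, swap y ((ρ ^ 3) y) * swap ((ρ ^ 3) y) ((ρ ^ 1) y)} : Set (Perm α)) :=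
    Subgroup.subset_closure (by simp)
  have hρ1 : ρ ≠ 1 := by
    intro h
    have : mp ρ y = 1 := by rw [h]; simp [mp]
    omega
  refine not_solvable_of_key _ ρ (swap y ((ρ ^ 3) y) * swap ((ρ ^ 3) y) ((ρ ^ 1) y))
    ((swap y ((ρ ^ 3) y) * swap ((ρ ^ 3) y) ((ρ ^ 1) y)) * ρ⁻¹) hρmem hemem
    (mul_mem hemem (inv_mem hρmem)) hρ1 ?_
  simpa using key

end Helper24

theorem caseA_cycle (p : ℕ) (hp : p.Prime) (hp5 : 5 ≤ p) (w : Perm α)
    (S : Finset α) (hS : Inv w S) (hScard : S.card = p)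
    (y : α) (hy : y ∈ S) (hyp : mp w y = p) :
    ∃ σ₁ σ₂ κ : Perm α, FullOn σ₁ S ∧ Good p σ₁ (restr w S) ∧ Good p σ₂ (restr w S) ∧
      σ₂ = κ * σ₁ * κ⁻¹ ∧ Perm.sign κ = -1 ∧ (∀ x, x ∉ S → κ x = x) := by
  classical
  have hmp : mp (restr w S) y = p := by rw [← hyp]; exact mp_restr w S hS y hy
  have hfull : FullOn (restr w S) S := Helper24.fullOn_restr w S hS y hy (by rw [hScard, hyp])
  generalize restr w S = ρ at hmp hfull ⊢
  have hodd : Odd (mp ρ y) := by rw [hmp]; exact hp.odd_of_ne_two (by omega)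
  have h5 : 5 ≤ mp ρ y := by rw [hmp]; exact hp5
  have hyS : ∀ k : ℕ, (ρ ^ k) y ∈ S := Helper24.pow_mem_of_fullOn ρ S hfull y hy
  have hne : ∀ i j : ℕ, i < p → j < p → i ≠ j → (ρ ^ i) y ≠ (ρ ^ j) y := by
    intro i j hi hj hij h
    rw [pow_apply_eq_iff, hmp] at h
    exact hij (Nat.ModEq.eq_of_lt_of_lt h hi hj)
  -- first conjugate
  have hκ₁fix : Helper24.FixOut (swap ((ρ ^ 1) y) ((ρ ^ 3) y)) S :=
    Helper24.fixOut_swap S _ _ (hyS 1) (hyS 3)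
  have hκ₁sign : Perm.sign (swap ((ρ ^ 1) y) ((ρ ^ 3) y)) = -1 :=
    Perm.sign_swap (hne 1 3 (by omega) (by omega) (by omega))
  have hσ₁ρ := Helper24.sigma_one ρ y h5
  have hgood₁ : Good p (swap ((ρ ^ 1) y) ((ρ ^ 3) y) * ρ⁻¹ * (swap ((ρ ^ 1) y) ((ρ ^ 3) y))⁻¹) ρ := by
    refine ⟨?_, ?_⟩
    · rw [hσ₁ρ, Helper24.order_e_one ρ y h5]
      exact Helper24.not_ppow p hp5 2 (Or.inl rfl)
    · apply not_solvable_closure_of_mem _ ρ (swap y ((ρ ^ 2) y) * swap (ρ y) ((ρ ^ 3) y))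
      · rw [← hσ₁ρ]
        exact mul_mem (Subgroup.subset_closure (by simp)) (Subgroup.subset_closure (by simp))
      · exact cert_A1 ρ y hodd h5
  have hfull₁ := Helper24.fullOn_conj_inv ρ (swap ((ρ ^ 1) y) ((ρ ^ 3) y)) S hfull hκ₁fix
  have hcases : p = 5 ∨ 7 ≤ p := by
    by_contra hcon
    rw [not_or, not_le] at hcon
    have : p = 6 := by omega
    rw [this] at hp
    exact absurd hp (by norm_num)
  rcases hcases with hp5' | hp7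
  · -- p = 5
    have h5' : mp ρ y = 5 := by rw [hmp, hp5']
    have hκ₂fix : Helper24.FixOut
        (swap ((ρ ^ 1) y) ((ρ ^ 2) y) * swap ((ρ ^ 2) y) ((ρ ^ 3) y)) S :=
      Helper24.fixOut_mul _ _ S (Helper24.fixOut_swap S _ _ (hyS 1) (hyS 2))
        (Helper24.fixOut_swap S _ _ (hyS 2) (hyS 3))
    have hσ₂ρ := Helper24.sigma_two5 ρ S hfull y hy h5 h5'
    have hgood₂ : Good p ((swap ((ρ ^ 1) y) ((ρ ^ 2) y) * swap ((ρ ^ 2) y) ((ρ ^ 3) y)) * ρ⁻¹ *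
        (swap ((ρ ^ 1) y) ((ρ ^ 2) y) * swap ((ρ ^ 2) y) ((ρ ^ 3) y))⁻¹) ρ := by
      refine ⟨?_, ?_⟩
      · rw [hσ₂ρ, Helper24.order_e_two5 ρ y h5]
        exact Helper24.not_ppow p hp5 3 (Or.inr rfl)
      · apply not_solvable_closure_of_mem _ ρ
          (swap y ((ρ ^ 3) y) * swap ((ρ ^ 3) y) ((ρ ^ 1) y))
        · rw [← hσ₂ρ]
          exact mul_mem (Subgroup.subset_closure (by simp)) (Subgroup.subset_closure (by simp))
        · exact Helper24.cert5 ρ S hfull y hy h5 h5'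
    refine ⟨_, _, (swap ((ρ ^ 1) y) ((ρ ^ 2) y) * swap ((ρ ^ 2) y) ((ρ ^ 3) y)) *
      (swap ((ρ ^ 1) y) ((ρ ^ 3) y))⁻¹, hfull₁, hgood₁, hgood₂, by group, ?_, ?_⟩
    · rw [map_mul, map_mul, map_inv, hκ₁sign,
        Perm.sign_swap (hne 1 2 (by omega) (by omega) (by omega)),
        Perm.sign_swap (hne 2 3 (by omega) (by omega) (by omega))]
      decide
    · exact Helper24.fixOut_mul _ _ S hκ₂fix (Helper24.fixOut_inv _ S hκ₁fix)
  · -- p ≥ 7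
    have h7 : 7 ≤ mp ρ y := by rw [hmp]; exact hp7
    have hκ₂fix : Helper24.FixOut
        (swap ((ρ ^ 1) y) ((ρ ^ 5) y) * swap ((ρ ^ 2) y) ((ρ ^ 6) y)) S :=
      Helper24.fixOut_mul _ _ S (Helper24.fixOut_swap S _ _ (hyS 1) (hyS 5))
        (Helper24.fixOut_swap S _ _ (hyS 2) (hyS 6))
    have hσ₂ρ := Helper24.sigma_two7 ρ y h7
    have hgood₂ : Good p ((swap ((ρ ^ 1) y) ((ρ ^ 5) y) * swap ((ρ ^ 2) y) ((ρ ^ 6) y)) * ρ⁻¹ *
        (swap ((ρ ^ 1) y) ((ρ ^ 5) y) * swap ((ρ ^ 2) y) ((ρ ^ 6) y))⁻¹) ρ := by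
      refine ⟨?_, ?_⟩
      · rw [hσ₂ρ, Helper24.order_e_two7 ρ y h7]
        exact Helper24.not_ppow p hp5 2 (Or.inl rfl)
      · apply not_solvable_closure_of_mem _ ρ
          (swap y ((ρ ^ 4) y) * swap ((ρ ^ 2) y) ((ρ ^ 6) y))
        · rw [← hσ₂ρ]
          exact mul_mem (Subgroup.subset_closure (by simp)) (Subgroup.subset_closure (by simp))
        · exact cert_A1_sq ρ y hodd h5
    refine ⟨_, _, (swap ((ρ ^ 1) y) ((ρ ^ 5) y) * swap ((ρ ^ 2) y) ((ρ ^ 6) y)) *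
      (swap ((ρ ^ 1) y) ((ρ ^ 3) y))⁻¹, hfull₁, hgood₁, hgood₂, by group, ?_, ?_⟩
    · rw [map_mul, map_mul, map_inv, hκ₁sign,
        Perm.sign_swap (hne 1 5 (by omega) (by omega) (by omega)),
        Perm.sign_swap (hne 2 6 (by omega) (by omega) (by omega))]
      decide
    · exact Helper24.fixOut_mul _ _ S hκ₂fix (Helper24.fixOut_inv _ S hκ₁fix)

end Cfsg.Agent.Lib.Helper14.S2276
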