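import Cfsg.Agent.Lib.Helper14.S2276.CaseA1
import Cfsg.Agent.Lib.Helper14.S2276.CaseA2
import Cfsg.Agent.Lib.Helper14.S2276.CaseA3

/-! # S2276 farm: [A1] + [A2] + [A3]. -/
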