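import Cfsg.Agent.Lib.Helper14.S2276.Basics

/-! # S2276 farm, piece [W]: non-solvability certificates through a finite window.

`not_solvable_of_key` is Mathlib's argument for `Equiv.Perm.not_isSolvable_fin_5`, for a subgroup.
`not_solvable_of_window`: if `ι : β ↪ α`, `E ⊆ Perm β` generates a non-solvable group and the
images `viaEmbeddingHom ι x` (`x ∈ E`) lie in `H ≤ Perm α`, then `H` is not solvable. -/

set_option autoImplicit false
set_option linter.unusedSectionVars false

namespace Cfsg.Agent.Lib.Helper14.S2276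

open Equiv Equiv.Perm
open scoped commutatorElement

theorem not_solvable_of_key {G : Type*} [Group G] (H : Subgroup G) (x y z : G)
    (hx : x ∈ H) (hy : y ∈ H) (hz : z ∈ H) (hx1 : x ≠ 1)
    (key : x = z * ⁅x, y * x * y⁻¹⁆ * z⁻¹) : ¬ Group.IsSolvable H := by
  have key' : (⟨x, hx⟩ : H) = ⟨z, hz⟩ * ⁅(⟨x, hx⟩ : H), ⟨y, hy⟩ * ⟨x, hx⟩ * (⟨y, hy⟩ : H)⁻¹⁆ *
      (⟨z, hz⟩ : H)⁻¹ := by
    apply Subtype.ext
    simpa [commutatorElement_def] using key
  have hne : (⟨x, hx⟩ : H) ≠ 1 := fun h => hx1 (congrArg Subtype.val h)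
  refine not_isSolvable_of_mem_derivedSeries hne fun n => ?_
  induction n with
  | zero => exact Subgroup.mem_top _
  | succ n ih =>
    rw [key', (derivedSeries_normal _ _).mem_comm_iff, inv_mul_cancel_left]
    exact Subgroup.commutator_mem_commutator ih ((derivedSeries_normal _ _).conj_mem _ ih _)

theorem not_solvable_of_le {G : Type*} [Group G] (H K : Subgroup G) (hHK : H ≤ K)
    (h : ¬ Group.IsSolvable H) : ¬ Group.IsSolvable K := by
  intro hK
  exact h (Group.isSolvable_of_isSolvable_injective (Subgroup.inclusion_injective hHK))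

variable {α : Type*} [Fintype α] [DecidableEq α] {β : Type*} [Fintype β] [DecidableEq β]

theorem viaEmbeddingHom_swap (ι : β ↪ α) (i j : β) :
    Equiv.Perm.viaEmbeddingHom ι (swap i j) = swap (ι i) (ι j) := by
  ext a
  rw [Equiv.Perm.viaEmbeddingHom_apply]
  by_cases ha : a ∈ Set.range ι
  · obtain ⟨b, rfl⟩ := ha
    rw [Equiv.Perm.viaEmbedding_apply, ι.injective.swap_apply]
  · rw [Equiv.Perm.viaEmbedding_apply_of_notMem _ _ _ ha, swap_apply_of_ne_of_ne]
    · rintro rfl
      exact ha ⟨i, rfl⟩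
    · rintro rfl
      exact ha ⟨j, rfl⟩

theorem not_solvable_of_window (ι : β ↪ α) (E : Set (Perm β))
    (hE : ¬ Group.IsSolvable (Subgroup.closure E)) (H : Subgroup (Perm α))
    (hH : ∀ x ∈ E, Equiv.Perm.viaEmbeddingHom ι x ∈ H) : ¬ Group.IsSolvable H := by
  intro hsol
  apply hE
  have hle : Subgroup.closure E ≤ H.comap (Equiv.Perm.viaEmbeddingHom ι) := by
    rw [Subgroup.closure_le]
    intro x hx
    exact hH x hx
  let ψ : Subgroup.closure E →* H :=
    ((Equiv.Perm.viaEmbeddingHom ι).comp (Subgroup.closure E).subtype).codRestrict H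
      (fun x => hle x.2)
  have hψ : Function.Injective ψ := by
    intro x y hxy
    have h1 : Equiv.Perm.viaEmbeddingHom ι (x : Perm β) = Equiv.Perm.viaEmbeddingHom ι (y : Perm β) :=
      congrArg Subtype.val hxy
    exact Subtype.ext (Equiv.Perm.viaEmbeddingHom_injective ι h1)
  exact Group.isSolvable_of_isSolvable_injective hψ

namespace Helper21

/-- the two 3-cycles `(0 1 2)` and `(2 3 4)` of `Perm (Fin 5)` generate a non-solvable group -/
theorem not_solvable_fin5 :
    ¬ Group.IsSolvable (Subgroup.closure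
      ({swap (0 : Fin 5) 1 * swap 1 2, swap (2 : Fin 5) 3 * swap 3 4} : Set (Perm (Fin 5)))) := by
  have ha : swap (0 : Fin 5) 1 * swap 1 2 ∈ Subgroup.closure
      ({swap (0 : Fin 5) 1 * swap 1 2, swap (2 : Fin 5) 3 * swap 3 4} : Set (Perm (Fin 5))) :=
    Subgroup.subset_closure (Set.mem_insert _ _)
  have hb : swap (2 : Fin 5) 3 * swap 3 4 ∈ Subgroup.closure
      ({swap (0 : Fin 5) 1 * swap 1 2, swap (2 : Fin 5) 3 * swap 3 4} : Set (Perm (Fin 5))) :=
    Subgroup.subset_closure (Set.mem_insert_of_mem _ (Set.mem_singleton _))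
  refine not_solvable_of_key _ (swap (0 : Fin 5) 1 * swap 1 2)
    ((swap (2 : Fin 5) 3 * swap 3 4)⁻¹ * (swap (0 : Fin 5) 1 * swap 1 2)⁻¹ *
      (swap (2 : Fin 5) 3 * swap 3 4)⁻¹)
    ((swap (2 : Fin 5) 3 * swap 3 4)⁻¹) ha ?_ ?_ ?_ ?_
  · exact Subgroup.mul_mem _ (Subgroup.mul_mem _ (Subgroup.inv_mem _ hb) (Subgroup.inv_mem _ ha))
      (Subgroup.inv_mem _ hb)
  · exact Subgroup.inv_mem _ hb
  · decide +kernel
  · decide +kernel

end Helper21

/-- Two 3-cycles sharing exactly one point generate a non-solvable group (`A₅`). -/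
theorem not_solvable_two_three_cycles (v : Fin 5 → α) (hv : Function.Injective v)
    (H : Subgroup (Perm α))
    (h1 : swap (v 0) (v 1) * swap (v 1) (v 2) ∈ H)
    (h2 : swap (v 2) (v 3) * swap (v 3) (v 4) ∈ H) : ¬ Group.IsSolvable H := by
  refine not_solvable_of_window ⟨v, hv⟩ _ Helper21.not_solvable_fin5 H ?_
  intro x hx
  rcases hx with rfl | hx
  · rw [map_mul, viaEmbeddingHom_swap, viaEmbeddingHom_swap]
    exact h1
  · rw [Set.mem_singleton_iff] at hx
    rw [hx, map_mul, viaEmbeddingHom_swap, viaEmbeddingHom_swap]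
    exact h2

end Cfsg.Agent.Lib.Helper14.S2276
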