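import Cfsg.Agent.Lib.Helper14.S2276.Merge
import Cfsg.Agent.Lib.Helper14.S2276.Extract
import Cfsg.Agent.Lib.Helper14.S2276.Window

/-! # (piece [B2] of this file)  # S2276 farm, pieces [B1], [B2], [BD]: `p = 3`, `w^3 = 1`, block `S` of odd size `≥ 9`.

Notation `ρ = restr w S` (so `ρ^3 = 1`, `sign ρ = 1`).

[B1] `y_i = w^i y` a 3-orbit in `S`, `q₁ ≠ q₂` fixed points in `S`.
`e = (q₁ y_2)(q₂ y_1)`, `π = e * ρ⁻¹` has the 5-orbit `y_0 → q₁ → y_2 → q₂ → y_1 → y_0` and the
other `ρ`-orbits; `F = {q₁, q₂, y_1, y_2}` (`y_0 ∉ F`).  `merge`, `good_of_merge`.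
Certificate for `⟨ρ, e⟩`: `e * ρ = (y_0 q₂ y_1 q₁ y_2) * (other 3-cycles of ρ)`, so
`c = (e * ρ)^6 = (y_0 q₂ y_1 q₁ y_2)`; in `Perm (Fin 5)` (window `0↦y_0, 1↦q₂, 2↦y_1, 3↦q₁, 4↦y_2`)
`⟨(0 1 2 3 4), (1 2)(3 4)⟩ = A₅`.

[B2] three different 3-orbits `A_i = w^i x`, `B_i = w^i y`, `C_i = w^i z` in `S`.
`e = (A_1 B_0)(A_2 C_0)(B_1 C_1)(B_2 C_2)`; `π = e * ρ⁻¹` has the 9-orbit
`A_0 → C_0 → B_2 → C_1 → A_2 → B_0 → C_2 → B_1 → A_1 → A_0`; `F` = these nine points minus `A_0`.
Certificate for `⟨ρ, e⟩`: `e, ρ e ρ⁻¹, ρ² e ρ⁻²` are supported on the nine points and generate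
`PSL₂(8)` (order 504) there; window `Fin 9`.

[BD] the dichotomy. -/

set_option autoImplicit false
set_option linter.unusedSectionVars false

namespace Cfsg.Agent.Lib.Helper14.S2276

open Equiv Equiv.Perm

variable {α : Type*} [Fintype α] [DecidableEq α]

namespace Helper29

section window

variable {β : Type*} [Fintype β] [DecidableEq β]

/-- `f` acts on the window `ι` as `f0` does. -/
def B2Win (ι : β ↪ α) (f : Perm α) (f0 : Perm β) : Prop := ∀ i, f (ι i) = ι (f0 i)

theorem b2_apply_inv {γ : Type*} (f : Perm γ) (x : γ) : f (f⁻¹ x) = x := f.apply_symm_apply x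

theorem b2_win_via (ι : β ↪ α) (g : Perm β) : B2Win ι (viaEmbeddingHom ι g) g := by
  intro i
  rw [viaEmbeddingHom_apply, viaEmbedding_apply]

theorem b2_via_not_mem (ι : β ↪ α) (g : Perm β) (a : α) (ha : a ∉ Set.range ι) :
    viaEmbeddingHom ι g a = a := by
  rw [viaEmbeddingHom_apply, viaEmbedding_apply_of_notMem _ _ _ ha]

theorem B2Win.mul {ι : β ↪ α} {f g : Perm α} {f0 g0 : Perm β} (hf : B2Win ι f f0)
    (hg : B2Win ι g g0) : B2Win ι (f * g) (f0 * g0) := by
  intro i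
  rw [Perm.mul_apply, hg i, hf (g0 i), Perm.mul_apply]

theorem B2Win.inv {ι : β ↪ α} {f : Perm α} {f0 : Perm β} (hf : B2Win ι f f0) :
    B2Win ι f⁻¹ f0⁻¹ := by
  intro i
  rw [Perm.inv_eq_iff_eq, hf (f0⁻¹ i), b2_apply_inv]

theorem B2Win.pow {ι : β ↪ α} {f : Perm α} {f0 : Perm β} (hf : B2Win ι f f0) (k : ℕ) :
    B2Win ι (f ^ k) (f0 ^ k) := by
  induction k with
  | zero => intro i; simp
  | succ k ih => rw [pow_succ, pow_succ]; exact ih.mul hf

theorem B2Win.not_mem {ι : β ↪ α} {f : Perm α} {f0 : Perm β} (hf : B2Win ι f f0) (a : α)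
    (ha : a ∉ Set.range ι) : f⁻¹ a ∉ Set.range ι := by
  rintro ⟨j, hj⟩
  apply ha
  refine ⟨f0 j, ?_⟩
  rw [← hf j, hj, b2_apply_inv]

theorem b2_via_conj (ι : β ↪ α) (f : Perm α) (f0 : Perm β) (hf : B2Win ι f f0) (g : Perm β) :
    viaEmbeddingHom ι (f0 * g * f0⁻¹) = f * viaEmbeddingHom ι g * f⁻¹ := by
  ext a
  by_cases ha : a ∈ Set.range ι
  · obtain ⟨i, rfl⟩ := ha
    rw [b2_win_via ι (f0 * g * f0⁻¹) i]
    exact (((hf.mul (b2_win_via ι g)).mul hf.inv) i).symm
  · rw [b2_via_not_mem ι _ a ha, Perm.mul_apply, Perm.mul_apply,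
      b2_via_not_mem ι g _ (hf.not_mem a ha), b2_apply_inv]

end window

/-- `ρ` on the window. -/
def b2r9 : Perm (Fin 9) :=
  (swap 0 1 * swap 1 2) * (swap 3 4 * swap 4 5) * (swap 6 7 * swap 7 8)

/-- `e` on the window. -/
def b2e9 : Perm (Fin 9) := swap 1 3 * swap 2 6 * swap 4 7 * swap 5 8

/-- `ρ e ρ⁻¹` on the window. -/
def b2e9a : Perm (Fin 9) := swap 0 7 * swap 2 4 * swap 3 6 * swap 5 8

/-- `ρ² e ρ⁻²` on the window. -/
def b2e9b : Perm (Fin 9) := swap 0 5 * swap 1 8 * swap 3 6 * swap 4 7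

theorem b2e9a_eq : b2e9a = b2r9 * b2e9 * b2r9⁻¹ := by decide +kernel

theorem b2e9b_eq : b2e9b = b2r9 * b2e9a * b2r9⁻¹ := by decide +kernel

theorem b2r9_spec : ∀ i : Fin 9,
    (b2r9 i).val / 3 = i.val / 3 ∧ (b2r9 i).val % 3 = (i.val + 1) % 3 := by decide +kernel

theorem b2e9_sq : b2e9 * b2e9 = 1 := by decide +kernel

theorem b2e9_zero : b2e9 0 = 0 := by decide +kernel

theorem b2e9_one : b2e9 1 = 3 := by decide +kernel

theorem b2pi9_reach : ∀ i : Fin 9, ∃ k : Fin 9, ((b2e9 * b2r9⁻¹) ^ k.val) i = 0 := by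
  decide +kernel

theorem b2e9_sign : Perm.sign b2e9 = 1 := by
  unfold b2e9
  simp [Perm.sign_mul, Perm.sign_swap']

theorem b2_cert9 : ¬ Group.IsSolvable (Subgroup.closure
    ({b2e9, b2e9a, b2e9b} : Set (Perm (Fin 9)))) := by
  have h0 : b2e9 ∈ Subgroup.closure ({b2e9, b2e9a, b2e9b} : Set (Perm (Fin 9))) :=
    Subgroup.subset_closure (Set.mem_insert _ _)
  have h1 : b2e9a ∈ Subgroup.closure ({b2e9, b2e9a, b2e9b} : Set (Perm (Fin 9))) :=
    Subgroup.subset_closure (Set.mem_insert_of_mem _ (Set.mem_insert _ _))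
  have h2 : b2e9b ∈ Subgroup.closure ({b2e9, b2e9a, b2e9b} : Set (Perm (Fin 9))) :=
    Subgroup.subset_closure
      (Set.mem_insert_of_mem _ (Set.mem_insert_of_mem _ (Set.mem_singleton _)))
  refine not_solvable_of_key _ (b2e9a * b2e9b * b2e9a * b2e9) b2e9b
    (b2e9b * b2e9a * b2e9b * b2e9) ?_ h2 ?_ ?_ ?_
  · exact Subgroup.mul_mem _ (Subgroup.mul_mem _ (Subgroup.mul_mem _ h1 h2) h1) h0
  · exact Subgroup.mul_mem _ (Subgroup.mul_mem _ (Subgroup.mul_mem _ h2 h1) h2) h0
  · decide +kernel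
  · decide +kernel

theorem b2_sign_via {β : Type*} [Fintype β] [DecidableEq β] (ι : β ↪ α) (g : Perm β) :
    Perm.sign (viaEmbeddingHom ι g) = Perm.sign g := by
  classical
  rw [viaEmbeddingHom_apply]
  unfold viaEmbedding
  convert sign_extendDomain g (ofInjective ι.1 ι.2)

end Helper29

theorem caseB2 (w : Perm α) (hw3 : w ^ 3 = 1) (S : Finset α) (hS : Inv w S)
    (hScard : Odd S.card) (x y z : α) (hx : x ∈ S) (hy : y ∈ S) (hz : z ∈ S)
    (hwx : w x ≠ x) (hwy : w y ≠ y) (hwz : w z ≠ z)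
    (hxy : ¬ w.SameCycle x y) (hxz : ¬ w.SameCycle x z) (hyz : ¬ w.SameCycle y z) :
    ∃ σ : Perm α, FullOn σ S ∧ Good 3 σ (restr w S) := by
  classical
  -- the three base points
  let pt : ℕ → α := fun n => if n = 0 then x else if n = 1 then y else z
  have hptS : ∀ n, pt n ∈ S := by
    intro n
    simp only [pt]
    split_ifs <;> assumption
  have hptw : ∀ n, w (pt n) ≠ pt n := by
    intro n
    simp only [pt]
    split_ifs <;> assumption
  have hptc : ∀ m n, m < 3 → n < 3 → w.SameCycle (pt m) (pt n) → m = n := by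
    intro m n hm hn h
    interval_cases m <;> interval_cases n
    · rfl
    · exact absurd h hxy
    · exact absurd h hxz
    · exact absurd h.symm hxy
    · rfl
    · exact absurd h hyz
    · exact absurd h.symm hxz
    · exact absurd h.symm hyz
    · rfl
  -- orbits of size 3
  have hper : ∀ q : α, w q ≠ q → ∀ a b, a < 3 → b < 3 → (w ^ a) q = (w ^ b) q → a = b := by
    intro q hq a b ha hb h
    have hp3 : Function.IsPeriodicPt w 3 q := by
      unfold Function.IsPeriodicPt Function.IsFixedPt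
      rw [Perm.iterate_eq_pow, hw3, Perm.one_apply]
    have hdvd : Function.minimalPeriod w q ∣ 3 := hp3.minimalPeriod_dvd
    have hmp3 : Function.minimalPeriod w q = 3 := by
      rcases (Nat.dvd_prime Nat.prime_three).mp hdvd with h1 | h3
      · exact absurd (Function.minimalPeriod_eq_one_iff_isFixedPt.mp h1) hq
      · exact h3
    have h' : w^[a] q = w^[b] q := by
      rw [Perm.iterate_eq_pow, Perm.iterate_eq_pow]; exact h
    exact (Function.iterate_eq_iterate_iff_of_lt_minimalPeriod (by rw [hmp3]; exact ha)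
      (by rw [hmp3]; exact hb)).mp h'
  -- the window
  let v : Fin 9 → α := fun i => (w ^ (i.val % 3)) (pt (i.val / 3))
  have hvS : ∀ i, v i ∈ S := fun i => (Helper1.inv_pow w S hS _ _).mpr (hptS _)
  have hvinj : Function.Injective v := by
    intro i j hij
    have hij' : (w ^ (i.val % 3)) (pt (i.val / 3)) = (w ^ (j.val % 3)) (pt (j.val / 3)) := hij
    have hsc : w.SameCycle (pt (i.val / 3)) (pt (j.val / 3)) := by
      have h1 : w.SameCycle ((w ^ (i.val % 3)) (pt (i.val / 3)))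
          ((w ^ (j.val % 3)) (pt (j.val / 3))) := by
        rw [hij']
      exact sameCycle_pow_left.mp (sameCycle_pow_right.mp h1)
    have hi := i.isLt
    have hj := j.isLt
    have hdiv : i.val / 3 = j.val / 3 := hptc _ _ (by omega) (by omega) hsc
    have hmod : i.val % 3 = j.val % 3 := by
      apply hper (pt (i.val / 3)) (hptw _) _ _ (Nat.mod_lt _ (by norm_num))
        (Nat.mod_lt _ (by norm_num))
      rw [hij', hdiv]
    apply Fin.ext
    omega
  let ι : Fin 9 ↪ α := ⟨v, hvinj⟩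
  have hιS : ∀ i, ι i ∈ S := hvS
  have hrange : ∀ a, a ∉ S → a ∉ Set.range ι := by
    rintro a ha ⟨i, rfl⟩
    exact ha (hιS i)
  -- `ρ` on the window
  have hρ3 : (restr w S) ^ 3 = 1 := by rw [restr_pow w S hS, hw3, restr_one]
  have hWρ : Helper29.B2Win ι (restr w S) Helper29.b2r9 := by
    intro i
    show restr w S (v i) = v (Helper29.b2r9 i)
    rw [restr_apply_mem w S hS _ (hvS i)]
    obtain ⟨h1, h2⟩ := Helper29.b2r9_spec i
    show w ((w ^ (i.val % 3)) (pt (i.val / 3)))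
      = (w ^ ((Helper29.b2r9 i).val % 3)) (pt ((Helper29.b2r9 i).val / 3))
    rw [h1, h2, ← Perm.mul_apply, ← pow_succ', pow_eq_pow_mod (i.val % 3 + 1) hw3]
    have h3 : (i.val % 3 + 1) % 3 = (i.val + 1) % 3 := by omega
    rw [h3]
  -- `e`, `π`, `F`
  let e : Perm α := viaEmbeddingHom ι Helper29.b2e9
  have hWe : Helper29.B2Win ι e Helper29.b2e9 := Helper29.b2_win_via ι _
  have hWπ : Helper29.B2Win ι (e * (restr w S)⁻¹) (Helper29.b2e9 * Helper29.b2r9⁻¹) :=
    hWe.mul hWρ.inv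
  let F : Finset α := (Finset.univ.erase (0 : Fin 9)).map ι
  have hmemF : ∀ i : Fin 9, ι i ∈ F ↔ i ≠ 0 := by
    intro i
    simp only [F, Finset.mem_map', Finset.mem_erase, Finset.mem_univ, and_true]
  have hFrange : ∀ a ∈ F, ∃ i : Fin 9, i ≠ 0 ∧ ι i = a := by
    intro a ha
    simp only [F, Finset.mem_map, Finset.mem_erase, Finset.mem_univ, and_true] at ha
    exact ha
  have hρout : ∀ a, a ∉ S → (restr w S)⁻¹ a = a := by
    intro a ha
    rw [Perm.inv_eq_iff_eq]
    exact (restr_apply_not_mem w S a ha).symm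
  have hπ : ∀ a, a ∉ S → (e * (restr w S)⁻¹) a = a := by
    intro a ha
    rw [Perm.mul_apply, hρout a ha]
    exact Helper29.b2_via_not_mem ι _ a (hrange a ha)
  have hF : ∀ a ∈ S, ∃ k : ℕ, ((e * (restr w S)⁻¹) ^ k) a ∉ F := by
    intro a _
    by_cases haF : a ∈ F
    · obtain ⟨i, -, rfl⟩ := hFrange a haF
      obtain ⟨k, hk⟩ := Helper29.b2pi9_reach i
      refine ⟨k.val, ?_⟩
      rw [hWπ.pow k.val i, hk, hmemF]
      exact fun h => h rfl
    · exact ⟨0, by rw [pow_zero, Perm.one_apply]; exact haF⟩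
  obtain ⟨lam, hlam, hlamF, _, hfull⟩ := merge (e * (restr w S)⁻¹) S F hπ hF
  have hfull' : FullOn (lam * e * (restr w S)⁻¹) S := by rw [mul_assoc]; exact hfull
  have hne01 : ι 0 ≠ ι 1 := ι.injective.ne (by decide)
  have hS2 : 2 ≤ S.card := Finset.one_lt_card.mpr ⟨ι 0, hιS 0, ι 1, hιS 1, hne01⟩
  have hdisj : ∀ a, e a ≠ a → lam a = a := by
    intro a ha
    by_cases har : a ∈ Set.range ι
    · obtain ⟨i, rfl⟩ := har
      apply hlamF
      rw [hmemF]
      rintro rfl
      apply ha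
      rw [hWe 0, Helper29.b2e9_zero]
    · exact absurd (Helper29.b2_via_not_mem ι _ a har) ha
  have hρsign : Perm.sign (restr w S) = 1 := by
    have h3 : (Perm.sign (restr w S)) ^ 3 = 1 := by rw [← map_pow, hρ3, map_one]
    rcases Int.units_eq_one_or (Perm.sign (restr w S)) with h | h
    · exact h
    · rw [h] at h3
      exact absurd h3 (by decide)
  have hesign : Perm.sign e = 1 := by
    rw [Helper29.b2_sign_via]
    exact Helper29.b2e9_sign
  have he2 : e * e = 1 := by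
    show viaEmbeddingHom ι Helper29.b2e9 * viaEmbeddingHom ι Helper29.b2e9 = 1
    rw [← map_mul, Helper29.b2e9_sq, map_one]
  have he1 : e ≠ 1 := by
    intro h
    have h1 : e (ι 1) = ι 3 := by rw [hWe 1, Helper29.b2e9_one]
    rw [h, Perm.one_apply] at h1
    exact absurd (ι.injective h1) (by decide)
  -- the certificate
  have hcert : ¬ Group.IsSolvable (Subgroup.closure ({restr w S, e} : Set (Perm α))) := by
    have hρmem : restr w S ∈ Subgroup.closure ({restr w S, e} : Set (Perm α)) :=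
      Subgroup.subset_closure (Set.mem_insert _ _)
    have hemem : e ∈ Subgroup.closure ({restr w S, e} : Set (Perm α)) :=
      Subgroup.subset_closure (Set.mem_insert_of_mem _ (Set.mem_singleton _))
    have hconj : ∀ g : Perm (Fin 9),
        viaEmbeddingHom ι g ∈ Subgroup.closure ({restr w S, e} : Set (Perm α)) →
        viaEmbeddingHom ι (Helper29.b2r9 * g * Helper29.b2r9⁻¹)
          ∈ Subgroup.closure ({restr w S, e} : Set (Perm α)) := by
      intro g hg
      rw [Helper29.b2_via_conj ι (restr w S) Helper29.b2r9 hWρ g]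
      exact Subgroup.mul_mem _ (Subgroup.mul_mem _ hρmem hg) (Subgroup.inv_mem _ hρmem)
    have hamem : viaEmbeddingHom ι Helper29.b2e9a
        ∈ Subgroup.closure ({restr w S, e} : Set (Perm α)) := by
      rw [Helper29.b2e9a_eq]
      exact hconj _ hemem
    have hbmem : viaEmbeddingHom ι Helper29.b2e9b
        ∈ Subgroup.closure ({restr w S, e} : Set (Perm α)) := by
      rw [Helper29.b2e9b_eq]
      exact hconj _ hamem
    refine not_solvable_of_window ι _ Helper29.b2_cert9 _ ?_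
    intro g hg
    rcases hg with rfl | rfl | rfl
    · exact hemem
    · exact hamem
    · exact hbmem
  refine ⟨lam * e * (restr w S)⁻¹, hfull', ?_⟩
  exact good_of_merge 3 Nat.prime_three (by norm_num) (restr w S) e lam S hScard hS2 hρsign
    hesign he2 he1 hlam hdisj hfull' hcert

end Cfsg.Agent.Lib.Helper14.S2276
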