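import Cfsg.Agent.Lib.Helper14.S2276.Defs

/-! # (piece [BD] of this file)  # S2276 farm, pieces [B1], [B2], [BD]: `p = 3`, `w^3 = 1`, block `S` of odd size `≥ 9`.

Notation `ρ = restr w S` (so `ρ^3 = 1`, `sign ρ = 1`).

[B1] `y_i = w^i y` a 3-orbit in `S`, `q₁ ≠ q₂` fixed points in `S`.
`e = (q₁ y_2)(q₂ y_1)`, `π = e * ρ⁻¹` has the 5-orbit `y_0 → q₁ → y_2 → q₂ → y_1 → y_0` and the
other `ρ`-orbits; `F = {q₁, q₂, y_1, y_2}` (`y_0 ∉ F`).  `merge`, `good_of_merge`.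
Certificate for `⟨ρ, e⟩`: `e * ρ = (y_0 q₂ y_1 q₁ y_2) * (other 3-cycles of ρ)`, so
`c = (e * ρ)^6 = (y_0 q₂ y_1 q₁ y_2)`; in `Perm (Fin 5)` (window `0↦y_0, 1↦q₂, 2↦y_1, 3↦q₁, 4↦y_2`)
`⟨(0 1 2 3 4), (1 2)(3 4)⟩ = A₅`.

[B2] three different 3-orbits `A_i = w^i x`, `B_i = w^i y`, `C_i = w^i z` in `S`.
`e = (A_1 B_0)(A_2 C_0)(B_1 C_1)(B_2 C_2)`; `π = e * ρ⁻¹` has the 9-orbit
`A_0 → C_0 → B_2 → C_1 → A_2 → B_0 → C_2 → B_1 → A_1 → A_0`; `F` = these nine points minus `A_0`.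
Certificate for `⟨ρ, e⟩`: `e, ρ e ρ⁻¹, ρ² e ρ⁻²` are supported on the nine points and generate
`PSL₂(8)` (order 504) there; window `Fin 9`.

[BD] the dichotomy. -/

set_option autoImplicit false

namespace Cfsg.Agent.Lib.Helper14.S2276

open Equiv Equiv.Perm

variable {α : Type*} [Fintype α] [DecidableEq α]

namespace Helper24

omit [Fintype α] [DecidableEq α] in
theorem sameCycle_cases (w : Perm α) (hw3 : w ^ 3 = 1) (x y : α) (h : w.SameCycle x y) :
    y = x ∨ y = w x ∨ y = (w ^ 2) x := by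
  obtain ⟨i, hi⟩ := h
  have h3 : w ^ (3 : ℤ) = 1 := by exact_mod_cast hw3
  have e : w ^ i = w ^ (i % 3) := zpow_eq_zpow_emod i h3
  have hlt : i % 3 < 3 := Int.emod_lt_of_pos i (by norm_num)
  have hge : 0 ≤ i % 3 := Int.emod_nonneg i (by norm_num)
  rw [e] at hi
  have : i % 3 = 0 ∨ i % 3 = 1 ∨ i % 3 = 2 := by omega
  rcases this with h0 | h1 | h2
  · left; rw [h0] at hi; simpa using hi.symm
  · right; left; rw [h1] at hi; simpa using hi.symm
  · right; right; rw [h2] at hi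
    have : (w ^ (2 : ℤ)) = w ^ (2 : ℕ) := by norm_cast
    rw [this] at hi; exact hi.symm

end Helper24

/-- If `S` has at most one fixed point of `w` then (`#S ≥ 9`, orbits of size `≤ 3`) it has
three different 3-orbits. -/
theorem caseB_dichotomy (w : Perm α) (hw3 : w ^ 3 = 1) (S : Finset α) (hS : Inv w S)
    (h9 : 9 ≤ S.card) :
    (∃ q₁ q₂ : α, q₁ ∈ S ∧ q₂ ∈ S ∧ q₁ ≠ q₂ ∧ w q₁ = q₁ ∧ w q₂ = q₂) ∨
    (∃ x y z : α, x ∈ S ∧ y ∈ S ∧ z ∈ S ∧ w x ≠ x ∧ w y ≠ y ∧ w z ≠ z ∧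
      ¬ w.SameCycle x y ∧ ¬ w.SameCycle x z ∧ ¬ w.SameCycle y z) := by
  classical
  by_cases hF : 1 < (S.filter (fun x => w x = x)).card
  · left
    obtain ⟨q₁, h1, q₂, h2, hne⟩ := Finset.one_lt_card.mp hF
    rw [Finset.mem_filter] at h1 h2
    exact ⟨q₁, q₂, h1.1, h2.1, hne, h1.2, h2.2⟩
  · right
    rw [not_lt] at hF
    set N := S.filter (fun x => ¬ w x = x) with hN
    have hcard : (S.filter (fun x => w x = x)).card + N.card = S.card :=
      Finset.card_filter_add_card_filter_not (s := S) (fun x => w x = x)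
    have hN8 : 8 ≤ N.card := by omega
    -- choose x
    have hne : N.Nonempty := Finset.card_pos.mp (by omega)
    obtain ⟨x, hx⟩ := hne
    set Ox : Finset α := {x, w x, (w ^ 2) x} with hOx
    have h1 : 5 ≤ (N \ Ox).card := by
      have := Finset.le_card_sdiff Ox N
      have h3 : Ox.card ≤ 3 := Finset.card_le_three
      omega
    obtain ⟨y, hy⟩ := Finset.card_pos.mp (by omega : 0 < (N \ Ox).card)
    set Oy : Finset α := {y, w y, (w ^ 2) y} with hOy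
    have h2 : 2 ≤ ((N \ Ox) \ Oy).card := by
      have := Finset.le_card_sdiff Oy (N \ Ox)
      have h3 : Oy.card ≤ 3 := Finset.card_le_three
      omega
    obtain ⟨z, hz⟩ := Finset.card_pos.mp (by omega : 0 < ((N \ Ox) \ Oy).card)
    rw [Finset.mem_sdiff] at hy
    rw [Finset.mem_sdiff, Finset.mem_sdiff] at hz
    obtain ⟨hyN, hyO⟩ := hy
    obtain ⟨⟨hzN, hzOx⟩, hzOy⟩ := hz
    rw [hN, Finset.mem_filter] at hx hyN hzN
    refine ⟨x, y, z, hx.1, hyN.1, hzN.1, hx.2, hyN.2, hzN.2, ?_, ?_, ?_⟩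
    · intro h
      apply hyO
      rcases Helper24.sameCycle_cases w hw3 x y h with h | h | h <;> simp [hOx, h]
    · intro h
      apply hzOx
      rcases Helper24.sameCycle_cases w hw3 x z h with h | h | h <;> simp [hOx, h]
    · intro h
      apply hzOy
      rcases Helper24.sameCycle_cases w hw3 y z h with h | h | h <;> simp [hOy, h]

end Cfsg.Agent.Lib.Helper14.S2276
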