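import Cfsg.Agent.Lib.Helper14.S2276.Merge
import Cfsg.Agent.Lib.Helper14.S2276.Extract
import Cfsg.Agent.Lib.Helper14.S2276.Window

/-! # (piece [B1] of this file)  # S2276 farm, pieces [B1], [B2], [BD]: `p = 3`, `w^3 = 1`, block `S` of odd size `≥ 9`.

Notation `ρ = restr w S` (so `ρ^3 = 1`, `sign ρ = 1`).

[B1] `y_i = w^i y` a 3-orbit in `S`, `q₁ ≠ q₂` fixed points in `S`.
`e = (q₁ y_2)(q₂ y_1)`, `π = e * ρ⁻¹` has the 5-orbit `y_0 → q₁ → y_2 → q₂ → y_1 → y_0` and the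
other `ρ`-orbits; `F = {q₁, q₂, y_1, y_2}` (`y_0 ∉ F`).  `merge`, `good_of_merge`.
Certificate for `⟨ρ, e⟩`: `e * ρ = (y_0 q₂ y_1 q₁ y_2) * (other 3-cycles of ρ)`, so
`c = (e * ρ)^6 = (y_0 q₂ y_1 q₁ y_2)`; in `Perm (Fin 5)` (window `0↦y_0, 1↦q₂, 2↦y_1, 3↦q₁, 4↦y_2`)
`⟨(0 1 2 3 4), (1 2)(3 4)⟩ = A₅`.

(helper17: the certificate actually used below is `e₀ = e`, `e₁ = ρ e ρ⁻¹ = (q₁ y_0)(q₂ y_2)`,
`e₂ = ρ⁻¹ e ρ = (q₁ y_1)(q₂ y_0)`; in the same window `⟨e₀, e₁, e₂⟩ = A₅`, key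
`x = e₀ e₁ e₂`, `y = e₀`, `z = e₁`.)

[B2] three different 3-orbits `A_i = w^i x`, `B_i = w^i y`, `C_i = w^i z` in `S`.
`e = (A_1 B_0)(A_2 C_0)(B_1 C_1)(B_2 C_2)`; `π = e * ρ⁻¹` has the 9-orbit
`A_0 → C_0 → B_2 → C_1 → A_2 → B_0 → C_2 → B_1 → A_1 → A_0`; `F` = these nine points minus `A_0`.
Certificate for `⟨ρ, e⟩`: `e, ρ e ρ⁻¹, ρ² e ρ⁻²` are supported on the nine points and generate
`PSL₂(8)` (order 504) there; window `Fin 9`.

[BD] the dichotomy. -/

set_option autoImplicit false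

namespace Cfsg.Agent.Lib.Helper14.S2276

open Equiv Equiv.Perm

variable {α : Type*} [Fintype α] [DecidableEq α]

namespace Helper17

set_option maxRecDepth 100000 in
/-- The three involutions `(3 4)(1 2)`, `(3 0)(1 4)`, `(3 2)(1 0)` generate a non-solvable
subgroup of `Perm (Fin 5)` (it is `A₅`). -/
theorem cert_fin5 :
    ¬ Group.IsSolvable (Subgroup.closure
      ({swap 3 4 * swap 1 2, swap 3 0 * swap 1 4, swap 3 2 * swap 1 0} : Set (Perm (Fin 5)))) := by
  have m0 : (swap 3 4 * swap 1 2 : Perm (Fin 5)) ∈ Subgroup.closure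
      ({swap 3 4 * swap 1 2, swap 3 0 * swap 1 4, swap 3 2 * swap 1 0} : Set (Perm (Fin 5))) :=
    Subgroup.subset_closure (by simp)
  have m1 : (swap 3 0 * swap 1 4 : Perm (Fin 5)) ∈ Subgroup.closure
      ({swap 3 4 * swap 1 2, swap 3 0 * swap 1 4, swap 3 2 * swap 1 0} : Set (Perm (Fin 5))) :=
    Subgroup.subset_closure (by simp)
  have m2 : (swap 3 2 * swap 1 0 : Perm (Fin 5)) ∈ Subgroup.closure
      ({swap 3 4 * swap 1 2, swap 3 0 * swap 1 4, swap 3 2 * swap 1 0} : Set (Perm (Fin 5))) :=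
    Subgroup.subset_closure (by simp)
  exact not_solvable_of_key _
    ((swap 3 4 * swap 1 2) * (swap 3 0 * swap 1 4) * (swap 3 2 * swap 1 0))
    (swap 3 4 * swap 1 2) (swap 3 0 * swap 1 4)
    (mul_mem (mul_mem m0 m1) m2) m0 m1 (by decide) (by decide)

end Helper17

set_option maxHeartbeats 2000000 in
theorem caseB1 (w : Perm α) (hw3 : w ^ 3 = 1) (S : Finset α) (hS : Inv w S)
    (hScard : Odd S.card) (y q₁ q₂ : α) (hy : y ∈ S) (hwy : w y ≠ y)
    (hq₁ : q₁ ∈ S) (hq₂ : q₂ ∈ S) (hq : q₁ ≠ q₂) (hwq₁ : w q₁ = q₁) (hwq₂ : w q₂ = q₂) :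
    ∃ σ : Perm α, FullOn σ S ∧ Good 3 σ (restr w S) := by
  -- the orbit of `y`
  have h3 : ∀ z, w (w (w z)) = z := by
    intro z
    have := congrArg (fun f : Perm α => f z) hw3
    simpa [pow_succ, Perm.mul_apply] using this
  have hy1 : w y ∈ S := (hS y).2 hy
  have hy2 : w (w y) ∈ S := (hS (w y)).2 hy1
  have h01 : y ≠ w y := fun h => hwy h.symm
  have h12 : w y ≠ w (w y) := fun h => h01 (w.injective h)
  have h02 : y ≠ w (w y) := by
    intro h
    apply hwy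
    have := congrArg w h
    rw [h3 y] at this
    exact this
  have hfix : ∀ q, w q = q → q ≠ y ∧ q ≠ w y ∧ q ≠ w (w y) := by
    intro q hwq
    refine ⟨?_, ?_, ?_⟩
    · rintro rfl; exact hwy hwq
    · intro h
      rw [h] at hwq
      exact hwy (w.injective hwq)
    · intro h
      rw [h] at hwq
      exact hwy (w.injective (w.injective hwq))
  obtain ⟨hq₁0, hq₁1, hq₁2⟩ := hfix q₁ hwq₁
  obtain ⟨hq₂0, hq₂1, hq₂2⟩ := hfix q₂ hwq₂
  -- `ρ`
  have hρ0 : restr w S y = w y := restr_apply_mem w S hS y hy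
  have hρ1 : restr w S (w y) = w (w y) := restr_apply_mem w S hS _ hy1
  have hρ2 : restr w S (w (w y)) = y := by rw [restr_apply_mem w S hS _ hy2, h3]
  have hρq₁ : restr w S q₁ = q₁ := by rw [restr_apply_mem w S hS _ hq₁, hwq₁]
  have hρq₂ : restr w S q₂ = q₂ := by rw [restr_apply_mem w S hS _ hq₂, hwq₂]
  have hρi0 : (restr w S)⁻¹ y = w (w y) := Perm.inv_eq_iff_eq.mpr hρ2.symm
  have hρi1 : (restr w S)⁻¹ (w y) = y := Perm.inv_eq_iff_eq.mpr hρ0.symm
  have hρi2 : (restr w S)⁻¹ (w (w y)) = w y := Perm.inv_eq_iff_eq.mpr hρ1.symm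
  have hρiq₁ : (restr w S)⁻¹ q₁ = q₁ := Perm.inv_eq_iff_eq.mpr hρq₁.symm
  have hρiq₂ : (restr w S)⁻¹ q₂ = q₂ := Perm.inv_eq_iff_eq.mpr hρq₂.symm
  have hρ3 : (restr w S) ^ 3 = 1 := by rw [restr_pow w S hS, hw3, restr_one]
  have hρsign : Perm.sign (restr w S) = 1 := by
    have h : (Perm.sign (restr w S)) ^ 3 = 1 := by rw [← map_pow, hρ3, map_one]
    rcases Int.units_eq_one_or (Perm.sign (restr w S)) with h1 | h1
    · exact h1
    · rw [h1] at h
      exact absurd h (by decide)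
  -- the window
  let v : Fin 5 → α := ![y, q₂, w y, q₁, w (w y)]
  have hv : Function.Injective v := by
    intro i j hij
    fin_cases i <;> fin_cases j <;> first | rfl | (exfalso; revert hij; simp [v]; try tauto)
  let ι : Fin 5 ↪ α := ⟨v, hv⟩
  -- `e`
  have hee : swap q₁ (w (w y)) * swap q₂ (w y)
      = Equiv.Perm.viaEmbeddingHom ι (swap 3 4 * swap 1 2) := by
    rw [map_mul, viaEmbeddingHom_swap, viaEmbeddingHom_swap]
    rfl
  have he2 : (swap q₁ (w (w y)) * swap q₂ (w y)) * (swap q₁ (w (w y)) * swap q₂ (w y)) = 1 := by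
    rw [hee, ← map_mul, show ((swap 3 4 * swap 1 2) * (swap 3 4 * swap 1 2) : Perm (Fin 5)) = 1 by
      decide, map_one]
  have he1 : swap q₁ (w (w y)) * swap q₂ (w y) ≠ 1 := by
    rw [hee]
    intro h
    have := Equiv.Perm.viaEmbeddingHom_injective ι (h.trans (map_one _).symm)
    revert this
    decide
  have hesign : Perm.sign (swap q₁ (w (w y)) * swap q₂ (w y)) = 1 := by
    rw [Perm.sign_mul, sign_swap hq₁2, sign_swap hq₂1]
    rfl
  have heq₁ : (swap q₁ (w (w y)) * swap q₂ (w y)) q₁ = w (w y) := by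
    rw [Perm.mul_apply, swap_apply_of_ne_of_ne hq hq₁1, swap_apply_left]
  have hey2 : (swap q₁ (w (w y)) * swap q₂ (w y)) (w (w y)) = q₁ := by
    rw [Perm.mul_apply, swap_apply_of_ne_of_ne (Ne.symm hq₂2) h12.symm, swap_apply_right]
  have heq₂ : (swap q₁ (w (w y)) * swap q₂ (w y)) q₂ = w y := by
    rw [Perm.mul_apply, swap_apply_left, swap_apply_of_ne_of_ne (Ne.symm hq₁1) h12]
  have hey1 : (swap q₁ (w (w y)) * swap q₂ (w y)) (w y) = q₂ := by
    rw [Perm.mul_apply, swap_apply_right, swap_apply_of_ne_of_ne hq.symm hq₂2]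
  have hefix : ∀ x, x ≠ q₁ → x ≠ q₂ → x ≠ w y → x ≠ w (w y) →
      (swap q₁ (w (w y)) * swap q₂ (w y)) x = x := by
    intro x h1 h2 h3 h4
    rw [Perm.mul_apply, swap_apply_of_ne_of_ne h2 h3, swap_apply_of_ne_of_ne h1 h4]
  have hey0 : (swap q₁ (w (w y)) * swap q₂ (w y)) y = y :=
    hefix y (Ne.symm hq₁0) (Ne.symm hq₂0) h01 h02
  -- `π = e * ρ⁻¹`
  have hπ0 : (swap q₁ (w (w y)) * swap q₂ (w y) * (restr w S)⁻¹) y = q₁ := by
    rw [Perm.mul_apply, hρi0, hey2]
  have hπq₁ : (swap q₁ (w (w y)) * swap q₂ (w y) * (restr w S)⁻¹) q₁ = w (w y) := by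
    rw [Perm.mul_apply, hρiq₁, heq₁]
  have hπ2 : (swap q₁ (w (w y)) * swap q₂ (w y) * (restr w S)⁻¹) (w (w y)) = q₂ := by
    rw [Perm.mul_apply, hρi2, hey1]
  have hπq₂ : (swap q₁ (w (w y)) * swap q₂ (w y) * (restr w S)⁻¹) q₂ = w y := by
    rw [Perm.mul_apply, hρiq₂, heq₂]
  have hπ1 : (swap q₁ (w (w y)) * swap q₂ (w y) * (restr w S)⁻¹) (w y) = y := by
    rw [Perm.mul_apply, hρi1, hey0]
  have hπout : ∀ x, x ∉ S →
      (swap q₁ (w (w y)) * swap q₂ (w y) * (restr w S)⁻¹) x = x := by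
    intro x hx
    have hρx : (restr w S)⁻¹ x = x :=
      Perm.inv_eq_iff_eq.mpr (restr_apply_not_mem w S x hx).symm
    rw [Perm.mul_apply, hρx]
    apply hefix
    · rintro rfl; exact hx hq₁
    · rintro rfl; exact hx hq₂
    · rintro rfl; exact hx hy1
    · rintro rfl; exact hx hy2
  have hy0F : y ∉ ({q₁, q₂, w y, w (w y)} : Finset α) := by
    simp only [Finset.mem_insert, Finset.mem_singleton, not_or]
    exact ⟨Ne.symm hq₁0, Ne.symm hq₂0, h01, h02⟩
  have hF : ∀ x ∈ S, ∃ k : ℕ,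
      ((swap q₁ (w (w y)) * swap q₂ (w y) * (restr w S)⁻¹) ^ k) x ∉
        ({q₁, q₂, w y, w (w y)} : Finset α) := by
    intro x _
    by_cases hxF : x ∈ ({q₁, q₂, w y, w (w y)} : Finset α)
    · simp only [Finset.mem_insert, Finset.mem_singleton] at hxF
      rcases hxF with rfl | rfl | rfl | rfl
      · refine ⟨4, ?_⟩
        have : ((swap x (w (w y)) * swap q₂ (w y) * (restr w S)⁻¹) ^ 4) x = y := by
          simp only [pow_succ, pow_zero, one_mul, Perm.mul_apply] at *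
          simp only [hρiq₁, heq₁, hρi2, hey1, hρiq₂, heq₂, hρi1, hey0]
        rw [this]; exact hy0F
      · refine ⟨2, ?_⟩
        have : ((swap q₁ (w (w y)) * swap x (w y) * (restr w S)⁻¹) ^ 2) x = y := by
          simp only [pow_succ, pow_zero, one_mul, Perm.mul_apply] at *
          simp only [hρiq₂, heq₂, hρi1, hey0]
        rw [this]; exact hy0F
      · refine ⟨1, ?_⟩
        rw [pow_one, hπ1]; exact hy0F
      · refine ⟨3, ?_⟩
        have : ((swap q₁ (w (w y)) * swap q₂ (w y) * (restr w S)⁻¹) ^ 3) (w (w y)) = y := by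
          simp only [pow_succ, pow_zero, one_mul, Perm.mul_apply] at *
          simp only [hρi2, hey1, hρiq₂, heq₂, hρi1, hey0]
        rw [this]; exact hy0F
    · exact ⟨0, by simpa using hxF⟩
  obtain ⟨lam, hlam, hlamF, hlamS, hfull⟩ :=
    merge (swap q₁ (w (w y)) * swap q₂ (w y) * (restr w S)⁻¹) S
      ({q₁, q₂, w y, w (w y)} : Finset α) hπout hF
  have hdisj : ∀ x, (swap q₁ (w (w y)) * swap q₂ (w y)) x ≠ x → lam x = x := by
    intro x hx
    apply hlamF
    by_contra hxF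
    simp only [Finset.mem_insert, Finset.mem_singleton, not_or] at hxF
    exact hx (hefix x hxF.1 hxF.2.1 hxF.2.2.1 hxF.2.2.2)
  have hfull' : FullOn (lam * (swap q₁ (w (w y)) * swap q₂ (w y)) * (restr w S)⁻¹) S := by
    rw [mul_assoc]
    exact hfull
  have hS2 : 2 ≤ S.card := Finset.one_lt_card.mpr ⟨q₁, hq₁, q₂, hq₂, hq⟩
  -- the certificate
  have hcert : ¬ Group.IsSolvable (Subgroup.closure
      ({restr w S, swap q₁ (w (w y)) * swap q₂ (w y)} : Set (Perm α))) := by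
    have mρ : restr w S ∈ Subgroup.closure
        ({restr w S, swap q₁ (w (w y)) * swap q₂ (w y)} : Set (Perm α)) :=
      Subgroup.subset_closure (by simp)
    have me : swap q₁ (w (w y)) * swap q₂ (w y) ∈ Subgroup.closure
        ({restr w S, swap q₁ (w (w y)) * swap q₂ (w y)} : Set (Perm α)) :=
      Subgroup.subset_closure (by simp)
    apply not_solvable_of_window ι _ Helper17.cert_fin5
    intro x hx
    simp only [Set.mem_insert_iff, Set.mem_singleton_iff] at hx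
    rcases hx with rfl | rfl | rfl
    · rw [← hee]; exact me
    · have h1 : Equiv.Perm.viaEmbeddingHom ι (swap 3 0 * swap 1 4)
          = swap q₁ y * swap q₂ (w (w y)) := by
        rw [map_mul, viaEmbeddingHom_swap, viaEmbeddingHom_swap]
        rfl
      have a : swap q₁ y = restr w S * swap q₁ (w (w y)) * (restr w S)⁻¹ := by
        rw [← swap_apply_apply, hρq₁, hρ2]
      have b : swap q₂ (w (w y)) = restr w S * swap q₂ (w y) * (restr w S)⁻¹ := by
        rw [← swap_apply_apply, hρq₂, hρ1]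
      have h2 : swap q₁ y * swap q₂ (w (w y))
          = restr w S * (swap q₁ (w (w y)) * swap q₂ (w y)) * (restr w S)⁻¹ := by
        rw [a, b]; group
      rw [h1, h2]
      exact mul_mem (mul_mem mρ me) (inv_mem mρ)
    · have h1 : Equiv.Perm.viaEmbeddingHom ι (swap 3 2 * swap 1 0)
          = swap q₁ (w y) * swap q₂ y := by
        rw [map_mul, viaEmbeddingHom_swap, viaEmbeddingHom_swap]
        rfl
      have a : swap q₁ (w y) = (restr w S)⁻¹ * swap q₁ (w (w y)) * ((restr w S)⁻¹)⁻¹ := by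
        rw [← swap_apply_apply, hρiq₁, hρi2]
      have b : swap q₂ y = (restr w S)⁻¹ * swap q₂ (w y) * ((restr w S)⁻¹)⁻¹ := by
        rw [← swap_apply_apply, hρiq₂, hρi1]
      have h2 : swap q₁ (w y) * swap q₂ y
          = (restr w S)⁻¹ * (swap q₁ (w (w y)) * swap q₂ (w y)) * restr w S := by
        rw [a, b]; group
      rw [h1, h2]
      exact mul_mem (mul_mem (inv_mem mρ) me) mρ
  exact ⟨lam * (swap q₁ (w (w y)) * swap q₂ (w y)) * (restr w S)⁻¹, hfull',
    good_of_merge 3 Nat.prime_three (by norm_num) (restr w S)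
      (swap q₁ (w (w y)) * swap q₂ (w y)) lam S hScard hS2 hρsign hesign he2 he1 hlam hdisj
      hfull' hcert⟩

end Cfsg.Agent.Lib.Helper14.S2276
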