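import Cfsg.Agent.Lib.Helper14.S2276.Transport
import Cfsg.Agent.Lib.Helper14.S2276.Window

/-! # (piece [Cdef] of this file)  # S2276 farm, pieces [C11], [C22], [C21], [C]: `p = 3`, `u^3 = w^3 = 1`, `#α ≥ 5`.

`Two f`: `f` has two different non-trivial orbits.

[C11] `u = (x_0 x_1 x_2)`, `w = (y_0 y_1 y_2)` single 3-cycles (all other points fixed);
`r ≠ s` fixed by `u`; any `g` with `g y_0 = x_2`, `g y_1 = r`, `g y_2 = s`:
`g w g⁻¹ = (x_2 r s)`, `u * g w g⁻¹` is a 5-cycle, `not_solvable_two_three_cycles`.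

[C22] blocks `Su` = two 3-orbits of `u`, `Sw` = two 3-orbits `(y_0 y_1 y_2)`, `(y_3 y_4 y_5)`
of `w`; model `σ = (y_0 y_1 y_3)(y_2 y_5 y_4)` (supported in `Sw`, cycle type `{3,3}`):
`σ * restr w Sw = (y_0 y_3 y_2 y_1 y_5)`, `⟨σ, restr w Sw⟩ ≅ A₅` (window `Fin 6`);
`transport_exists`, `transport_good`.

[C21] `Su` = two 3-orbits of `u`; `Sw = {y_0,y_1,y_2,q_3,q_4,q_5}`, `w = (y_0 y_1 y_2)`,
`q_i` fixed; model `σ = (y_0 y_2 q_3)(y_1 q_4 q_5)`: `σ * restr w Sw = (y_0 q_4 q_5 y_1 q_3)`,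
`⟨σ, restr w Sw⟩ = A₆` (window `Fin 6`). -/

set_option autoImplicit false

namespace Cfsg.Agent.Lib.Helper14.S2276

open Equiv Equiv.Perm

variable {α : Type*} [Fintype α] [DecidableEq α]

/-- `f` has two different non-trivial orbits. -/
def Two (f : Perm α) : Prop := ∃ x y : α, f x ≠ x ∧ f y ≠ y ∧ ¬ f.SameCycle x y

end Cfsg.Agent.Lib.Helper14.S2276
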