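import Cfsg.Agent.Lib.Helper14.S2276.Transport
import Cfsg.Agent.Lib.Helper14.S2276.Window
import Cfsg.Agent.Lib.Helper14.S2276.CaseCDefs

/-! # (piece [C11] of this file)  # S2276 farm, pieces [C11], [C22], [C21], [C]: `p = 3`, `u^3 = w^3 = 1`, `#α ≥ 5`.

`Two f`: `f` has two different non-trivial orbits.

[C11] `u = (x_0 x_1 x_2)`, `w = (y_0 y_1 y_2)` single 3-cycles (all other points fixed);
`r ≠ s` fixed by `u`; any `g` with `g y_0 = x_2`, `g y_1 = r`, `g y_2 = s`:
`g w g⁻¹ = (x_2 r s)`, `u * g w g⁻¹` is a 5-cycle, `not_solvable_two_three_cycles`.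

[C22] blocks `Su` = two 3-orbits of `u`, `Sw` = two 3-orbits `(y_0 y_1 y_2)`, `(y_3 y_4 y_5)`
of `w`; model `σ = (y_0 y_1 y_3)(y_2 y_5 y_4)` (supported in `Sw`, cycle type `{3,3}`):
`σ * restr w Sw = (y_0 y_3 y_2 y_1 y_5)`, `⟨σ, restr w Sw⟩ ≅ A₅` (window `Fin 6`);
`transport_exists`, `transport_good`.

[C21] `Su` = two 3-orbits of `u`; `Sw = {y_0,y_1,y_2,q_3,q_4,q_5}`, `w = (y_0 y_1 y_2)`,
`q_i` fixed; model `σ = (y_0 y_2 q_3)(y_1 q_4 q_5)`: `σ * restr w Sw = (y_0 q_4 q_5 y_1 q_3)`,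
`⟨σ, restr w Sw⟩ = A₆` (window `Fin 6`). -/

set_option autoImplicit false

namespace Cfsg.Agent.Lib.Helper14.S2276

open Equiv Equiv.Perm

variable {α : Type*} [Fintype α] [DecidableEq α]

namespace Helper17

/-- A non-trivial permutation of exponent 3 with a single non-trivial orbit is a 3-cycle. -/
theorem three_cycle_of (u : Perm α) (hu3 : u ^ 3 = 1) (hu1 : u ≠ 1) (hu : ¬ Two u) :
    ∃ x0 x1 x2 : α, x0 ≠ x1 ∧ x1 ≠ x2 ∧ x0 ≠ x2 ∧ u = swap x0 x1 * swap x1 x2 := by
  obtain ⟨x0, hx0⟩ : ∃ x0, u x0 ≠ x0 := by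
    by_contra hcon
    push Not at hcon
    exact hu1 (Perm.ext hcon)
  have h3 : ∀ z, u (u (u z)) = z := by
    intro z
    have := congrArg (fun f : Perm α => f z) hu3
    simpa [pow_succ, Perm.mul_apply] using this
  have h01 : x0 ≠ u x0 := fun h => hx0 h.symm
  have h12 : u x0 ≠ u (u x0) := fun h => h01 (u.injective h)
  have h02 : x0 ≠ u (u x0) := by
    intro h
    apply hx0
    have := congrArg u h
    rw [h3 x0] at this
    exact this
  refine ⟨x0, u x0, u (u x0), h01, h12, h02, ?_⟩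
  ext y
  rw [Perm.mul_apply]
  by_cases hy0 : y = x0
  · subst hy0
    rw [swap_apply_of_ne_of_ne h01 h02, swap_apply_left]
  by_cases hy1 : y = u x0
  · subst hy1
    rw [swap_apply_left, swap_apply_of_ne_of_ne h02.symm h12.symm]
  by_cases hy2 : y = u (u x0)
  · subst hy2
    rw [swap_apply_right, swap_apply_right, h3]
  rw [swap_apply_of_ne_of_ne hy1 hy2, swap_apply_of_ne_of_ne hy0 hy1]
  by_contra hne
  apply hu
  refine ⟨x0, y, hx0, hne, ?_⟩
  intro hsc
  obtain ⟨i, hi⟩ := hsc.exists_nat_pow_eq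
  rw [pow_eq_pow_mod i hu3] at hi
  have hlt : i % 3 < 3 := Nat.mod_lt _ (by norm_num)
  interval_cases h : i % 3
  · exact hy0 (by simpa using hi.symm)
  · exact hy1 (by simpa using hi.symm)
  · exact hy2 (by simpa [pow_succ, Perm.mul_apply] using hi.symm)

end Helper17

theorem caseC11 (u w : Perm α) (hn : 5 ≤ Fintype.card α) (hu3 : u ^ 3 = 1) (hw3 : w ^ 3 = 1)
    (hu1 : u ≠ 1) (hw1 : w ≠ 1) (hu : ¬ Two u) (hw : ¬ Two w) :
    ∃ g : Perm α, Good 3 u (g * w * g⁻¹) := by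
  obtain ⟨x0, x1, x2, hx01, hx12, hx02, hueq⟩ := Helper17.three_cycle_of u hu3 hu1 hu
  obtain ⟨y0, y1, y2, hy01, hy12, hy02, hweq⟩ := Helper17.three_cycle_of w hw3 hw1 hw
  -- two more points
  have hcard : 1 < (({x0, x1, x2} : Finset α)ᶜ).card := by
    rw [Finset.card_compl]
    have : ({x0, x1, x2} : Finset α).card ≤ 3 := Finset.card_le_three
    omega
  obtain ⟨r, hr, s, hs, hrs⟩ := Finset.one_lt_card.mp hcard
  rw [Finset.mem_compl] at hr hs
  simp only [Finset.mem_insert, Finset.mem_singleton, not_or] at hr hs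
  obtain ⟨hr0, hr1, hr2⟩ := hr
  obtain ⟨hs0, hs1, hs2⟩ := hs
  -- the conjugate
  have hw3c : IsThreeCycle w := by
    rw [hweq, swap_comm y0 y1]
    exact isThreeCycle_swap_mul_swap_same hy01.symm hy12 hy02
  have hw3c' : IsThreeCycle (swap x2 r * swap r s) := by
    rw [swap_comm x2 r]
    exact isThreeCycle_swap_mul_swap_same hr2 hrs (Ne.symm hs2)
  have hconj : IsConj w (swap x2 r * swap r s) := by
    rw [isConj_iff_cycleType_eq, hw3c.cycleType, hw3c'.cycleType]
  obtain ⟨g, hg⟩ := isConj_iff.mp hconj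
  refine ⟨g, ?_⟩
  rw [hg]
  -- the window
  let v : Fin 5 → α := ![x0, x1, x2, r, s]
  have hv : Function.Injective v := by
    intro i j hij
    fin_cases i <;> fin_cases j <;> first | rfl | (exfalso; revert hij; simp [v]; try tauto)
  refine ⟨?_, ?_⟩
  · -- the order is 5
    let ι : Fin 5 ↪ α := ⟨v, hv⟩
    have h1 : u = Equiv.Perm.viaEmbeddingHom ι (swap 0 1 * swap 1 2) := by
      rw [map_mul, viaEmbeddingHom_swap, viaEmbeddingHom_swap, hueq]
      rfl
    have h2 : swap x2 r * swap r s = Equiv.Perm.viaEmbeddingHom ι (swap 2 3 * swap 3 4) := by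
      rw [map_mul, viaEmbeddingHom_swap, viaEmbeddingHom_swap]
      rfl
    rw [h1, h2, ← map_mul,
      orderOf_injective (Equiv.Perm.viaEmbeddingHom ι) (Equiv.Perm.viaEmbeddingHom_injective ι)]
    have h5 : orderOf ((swap 0 1 * swap 1 2 * (swap 2 3 * swap 3 4) : Perm (Fin 5))) = 5 := by
      haveI : Fact (Nat.Prime 5) := ⟨by norm_num⟩
      exact orderOf_eq_prime (by decide) (by decide)
    rw [h5]
    rintro ⟨k, hk⟩
    rcases k with _ | _ | k
    · norm_num at hk
    · norm_num at hk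
    · have : 9 ≤ 3 ^ (k + 1 + 1) := by
        calc 9 = 3 ^ 2 := by norm_num
          _ ≤ 3 ^ (k + 1 + 1) := Nat.pow_le_pow_right (by norm_num) (by omega)
      omega
  · apply not_solvable_two_three_cycles v hv
    · have : swap (v 0) (v 1) * swap (v 1) (v 2) = u := by rw [hueq]; rfl
      rw [this]
      exact Subgroup.subset_closure (by simp)
    · have : swap (v 2) (v 3) * swap (v 3) (v 4) = swap x2 r * swap r s := rfl
      rw [this]
      exact Subgroup.subset_closure (by simp)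

end Cfsg.Agent.Lib.Helper14.S2276
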