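import Cfsg.Agent.Lib.Helper14.S2276.Transport
import Cfsg.Agent.Lib.Helper14.S2276.Window
import Cfsg.Agent.Lib.Helper14.S2276.CaseCDefs
import Cfsg.Agent.Lib.Helper16.S2276Aux

/-! # (piece [C21] of this file)  # S2276 farm, pieces [C11], [C22], [C21], [C]: `p = 3`, `u^3 = w^3 = 1`, `#α ≥ 5`.

`Two f`: `f` has two different non-trivial orbits.

[C11] `u = (x_0 x_1 x_2)`, `w = (y_0 y_1 y_2)` single 3-cycles (all other points fixed);
`r ≠ s` fixed by `u`; any `g` with `g y_0 = x_2`, `g y_1 = r`, `g y_2 = s`: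
`g w g⁻¹ = (x_2 r s)`, `u * g w g⁻¹` is a 5-cycle, `not_solvable_two_three_cycles`.

[C22] blocks `Su` = two 3-orbits of `u`, `Sw` = two 3-orbits `(y_0 y_1 y_2)`, `(y_3 y_4 y_5)`
of `w`; model `σ = (y_0 y_1 y_3)(y_2 y_5 y_4)` (supported in `Sw`, cycle type `{3,3}`):
`σ * restr w Sw = (y_0 y_3 y_2 y_1 y_5)`, `⟨σ, restr w Sw⟩ ≅ A₅` (window `Fin 6`);
`transport_exists`, `transport_good`.

[C21] `Su` = two 3-orbits of `u`; `Sw = {y_0,y_1,y_2,q_3,q_4,q_5}`, `w = (y_0 y_1 y_2)`,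
`q_i` fixed; model `σ = (y_0 y_2 q_3)(y_1 q_4 q_5)`: `σ * restr w Sw = (y_0 q_4 q_5 y_1 q_3)`,
`⟨σ, restr w Sw⟩ = A₆` (window `Fin 6`). -/

set_option autoImplicit false

namespace Cfsg.Agent.Lib.Helper14.S2276

open Equiv Equiv.Perm

variable {α : Type*} [Fintype α] [DecidableEq α]

theorem caseC21 (u w : Perm α) (hu3 : u ^ 3 = 1) (hw3 : w ^ 3 = 1) (hw1 : w ≠ 1)
    (hu : Two u) (hw : ¬ Two w) :
    ∃ g : Perm α, Good 3 u (g * w * g⁻¹) := by
  obtain ⟨ιu, hιu⟩ := Helper16.exists_window_two u hu3 hu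
  obtain ⟨ιw, hιw⟩ := Helper16.exists_window_one w hw3 hw1 hw
    (Helper16.card_ge_six_of_two u hu3 hu)
  exact Helper16.good_of_models u w ιu ιw Helper16.m33 Helper16.m3 Helper16.s21 hιu hιw
    Helper16.c21 Helper16.c21_conj Helper16.s21_pow Helper16.s21_ne Helper16.ns21

end Cfsg.Agent.Lib.Helper14.S2276
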