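import Cfsg.Agent.Lib.Helper14.S2276.CaseCDefs
import Cfsg.Agent.Lib.Helper14.S2276.CaseC11
import Cfsg.Agent.Lib.Helper14.S2276.CaseC22
import Cfsg.Agent.Lib.Helper14.S2276.CaseC21
import Cfsg.Agent.Lib.Helper14.S2276.CaseCAll

/-! # S2276 farm: case C. -/
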