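import Mathlib

/-!
# S2276 farm: shared definitions (helper14)

`Good p x y` : `x * y` is not of `p`-power order and `⟨x, y⟩` is not solvable.
`Inv f S`    : the finset `S` is `f`-invariant.
`restr f S`  : `f` on `S`, the identity outside (the identity if `S` is not invariant).
`FullOn f S` : `f` is the identity outside `S` and transitive on `S`.
`mp f x`     : `Function.minimalPeriod f x`, the size of the `f`-orbit of `x`.
-/

set_option autoImplicit false

namespace Cfsg.Agent.Lib.Helper14.S2276

open Equiv Equiv.Perm

/-- The pair `(x, y)` is good for `p`. -/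
def Good (p : ℕ) {G : Type*} [Group G] (x y : G) : Prop :=
  (¬ ∃ k : ℕ, orderOf (x * y) = p ^ k) ∧
    ¬ Group.IsSolvable (Subgroup.closure ({x, y} : Set G))

variable {α : Type*} [Fintype α] [DecidableEq α]

/-- `S` is invariant under `f`. -/
def Inv (f : Perm α) (S : Finset α) : Prop := ∀ x, f x ∈ S ↔ x ∈ S

open Classical in
/-- `f` restricted to `S`, the identity outside `S` (and `1` if `S` is not `f`-invariant). -/
noncomputable def restr (f : Perm α) (S : Finset α) : Perm α :=
  if h : ∀ x, f x ∈ S ↔ x ∈ S then
    ofSubtype (f.subtypePerm (p := fun x => x ∈ S) h)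
  else 1

/-- `f` is the identity outside `S` and transitive on `S`. -/
def FullOn (f : Perm α) (S : Finset α) : Prop :=
  (∀ x, x ∉ S → f x = x) ∧ ∀ x ∈ S, ∀ y ∈ S, f.SameCycle x y

/-- Orbit size. -/
noncomputable abbrev mp (f : Perm α) (x : α) : ℕ := Function.minimalPeriod f x

end Cfsg.Agent.Lib.Helper14.S2276
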