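import Cfsg.Agent.Lib.Helper14.S2276.Basics

/-! # S2276 farm, piece [I]: an invariant subset of prescribed `p`-power size.

All orbit sizes of `w` are powers of `p`; `y` has the largest orbit, of size `≤ a = p^j ≤ #α`.
Then some `w`-invariant `S ∋ y` has exactly `a` elements.
(Greedy: start with the orbit of `y`; while `#S < a`, every orbit outside has size `s` dividing both
`#S` and `a` — adding orbits in order of decreasing size — so `#S + s ≤ a`.  Cleaner: prove by
induction on `j` that any invariant `Ω'` with `#Ω' ≥ p^j` all of whose orbits have size `≤ p^j`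
contains an invariant subset of size `p^j`: an orbit of size `p^j`, or `p` disjoint ones of size
`p^(j-1)`.)

Proof (helper8): the greedy argument, as an induction on `a - #S` with the invariant
"every orbit outside `S` has size dividing `#S`". -/

set_option autoImplicit false

namespace Cfsg.Agent.Lib.Helper14.S2276

open Equiv Equiv.Perm

variable {α : Type*} [Fintype α] [DecidableEq α]

namespace Helper8

set_option linter.unusedSectionVars false

/-- An invariant finset is invariant under all integer powers. -/
theorem inv_zpow (f : Perm α) (S : Finset α) (hS : Inv f S) (i : ℤ) (z : α) :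
    (f ^ i) z ∈ S ↔ z ∈ S := by
  induction i using Int.induction_on generalizing z with
  | zero => simp
  | succ n ih =>
    rw [zpow_add_one, Perm.mul_apply]
    rw [ih (f z)]
    exact hS z
  | pred n ih =>
    rw [zpow_sub_one, Perm.mul_apply]
    rw [ih (f⁻¹ z)]
    have := hS (f⁻¹ z)
    have h2 : f (f⁻¹ z) = z := by simp
    rw [h2] at this
    exact this.symm

theorem inv_sameCycle (f : Perm α) (S : Finset α) (hS : Inv f S) {x z : α}
    (h : f.SameCycle x z) : x ∈ S ↔ z ∈ S := by
  obtain ⟨i, hi⟩ := h
  rw [← hi]
  exact (inv_zpow f S hS i x).symm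

theorem inv_union (f : Perm α) (S O : Finset α) (hS : Inv f S) (hO : Inv f O) :
    Inv f (S ∪ O) := by
  intro x
  rw [Finset.mem_union, Finset.mem_union, hS x, hO x]

end Helper8

theorem exists_invariant_subset (p : ℕ) (hp : p.Prime) (w : Perm α)
    (hw : ∃ k : ℕ, orderOf w = p ^ k) (y : α) (hy : ∀ x, mp w x ≤ mp w y)
    (a : ℕ) (ha : ∃ j : ℕ, a = p ^ j) (hay : mp w y ≤ a) (han : a ≤ Fintype.card α) :
    ∃ S : Finset α, Inv w S ∧ S.card = a ∧ y ∈ S := by
  classical
  have hpow : ∀ x, ∃ i : ℕ, mp w x = p ^ i := mp_prime_pow p hp w hw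
  have hdvd : ∀ x x', mp w x ≤ mp w x' → mp w x ∣ mp w x' := by
    intro x x' h
    obtain ⟨i, hi⟩ := hpow x
    obtain ⟨i', hi'⟩ := hpow x'
    rw [hi, hi'] at h ⊢
    exact pow_dvd_pow p ((Nat.pow_le_pow_iff_right hp.one_lt).mp h)
  have hdvda : ∀ x, mp w x ∣ a := by
    intro x
    obtain ⟨j, hj⟩ := ha
    obtain ⟨i, hi⟩ := hpow x
    have h1 : mp w x ≤ a := le_trans (hy x) hay
    rw [hi, hj] at h1 ⊢
    exact pow_dvd_pow p ((Nat.pow_le_pow_iff_right hp.one_lt).mp h1)
  have key : ∀ n : ℕ, ∀ S : Finset α, Inv w S → y ∈ S → S.card ≤ a → a - S.card = n →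
      (∀ x, x ∉ S → mp w x ∣ S.card) → ∃ S' : Finset α, Inv w S' ∧ S'.card = a ∧ y ∈ S' := by
    intro n
    induction n using Nat.strong_induction_on with
    | _ n ih =>
      intro S hS hyS hle hn hout
      by_cases hEq : S.card = a
      · exact ⟨S, hS, hEq, hyS⟩
      · have hlt : S.card < a := lt_of_le_of_ne hle hEq
        have hne : (Finset.univ \ S).Nonempty := by
          rw [Finset.nonempty_iff_ne_empty]
          intro h
          have h2 : Finset.univ ⊆ S := Finset.sdiff_eq_empty_iff_subset.mp h
          have h3 : Fintype.card α ≤ S.card := by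
            rw [← Finset.card_univ]; exact Finset.card_le_card h2
          omega
        obtain ⟨x, hxmem, hmax⟩ := Finset.exists_max_image (Finset.univ \ S) (fun x => mp w x) hne
        have hx : x ∉ S := (Finset.mem_sdiff.mp hxmem).2
        obtain ⟨O, hO, hOcard, hxO, hOsame⟩ := exists_orbit_finset w x
        have hdisj : Disjoint S O := by
          rw [Finset.disjoint_left]
          intro z hzS hzO
          exact hx ((Helper8.inv_sameCycle w S hS (hOsame x hxO z hzO)).mpr hzS)
        have hcard : (S ∪ O).card = S.card + mp w x := by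
          rw [Finset.card_union_of_disjoint hdisj, hOcard]
        have hsdvd : mp w x ∣ a - S.card := Nat.dvd_sub (hdvda x) (hout x hx)
        have hsle : mp w x ≤ a - S.card := Nat.le_of_dvd (by omega) hsdvd
        refine ih (a - (S ∪ O).card) ?_ (S ∪ O) (Helper8.inv_union w S O hS hO)
          (Finset.mem_union_left _ hyS) ?_ rfl ?_
        · have hpos : 0 < mp w x := mp_pos w x
          rw [hcard]; omega
        · rw [hcard]; omega
        · intro x' hx'
          rw [Finset.mem_union, not_or] at hx'
          rw [hcard]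
          have h1 : mp w x' ∣ S.card := hout x' hx'.1
          have h2 : mp w x' ∣ mp w x :=
            hdvd x' x (hmax x' (Finset.mem_sdiff.mpr ⟨Finset.mem_univ _, hx'.1⟩))
          exact dvd_add h1 h2
  obtain ⟨S0, hS0, hS0card, hyS0, _⟩ := exists_orbit_finset w y
  refine key (a - S0.card) S0 hS0 hyS0 (by rw [hS0card]; exact hay) rfl ?_
  intro x _
  rw [hS0card]
  exact hdvd x y (hy x)

end Cfsg.Agent.Lib.Helper14.S2276
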