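import Cfsg.Agent.Lib.Helper14.S2276.Basics

/-! # S2276 farm, piece [P]: parity. (proofs: helper3) -/

set_option autoImplicit false

namespace Cfsg.Agent.Lib.Helper14.S2276

open Equiv Equiv.Perm

variable {α : Type*} [Fintype α] [DecidableEq α]

namespace Helper3

/-- An odd permutation in a subgroup not contained in the alternating group. -/
theorem exists_odd_of_not_le (u : Perm α)
    (h : ¬ (Subgroup.centralizer {u} ≤ alternatingGroup α)) :
    ∃ c : Perm α, c * u = u * c ∧ Perm.sign c = -1 := by
  rw [SetLike.not_le_iff_exists] at h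
  obtain ⟨c, hc, hc2⟩ := h
  refine ⟨c, ?_, ?_⟩
  · have := (Subgroup.mem_centralizer_iff.1 hc) u (Set.mem_singleton u)
    exact this.symm
  · rw [Equiv.Perm.mem_alternatingGroup] at hc2
    rcases Int.units_eq_one_or (Perm.sign c) with h1 | h1
    · exact absurd h1 hc2
    · exact h1

/-- Every member of the cycle type is at most the maximal orbit size. -/
theorem cycleType_le (w : Perm α) (m : ℕ) (hmax : ∀ x, mp w x ≤ m) {c : ℕ}
    (hc : c ∈ w.cycleType) : c ≤ m := by
  rw [cycleType_def, Multiset.mem_map] at hc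
  obtain ⟨τ, hτ, rfl⟩ := hc
  have hτ' : τ ∈ w.cycleFactorsFinset := hτ
  rw [mem_cycleFactorsFinset_iff] at hτ'
  obtain ⟨hcyc, hagree⟩ := hτ'
  obtain ⟨x, hx, -⟩ := id hcyc
  have hxs : x ∈ τ.support := Perm.mem_support.2 hx
  have hpow : ∀ n : ℕ, (τ ^ n) x = (w ^ n) x := by
    intro n
    induction n with
    | zero => simp
    | succ n ih =>
      rw [pow_succ', Perm.mul_apply, pow_succ', Perm.mul_apply, ← ih]
      exact hagree _ (Perm.pow_apply_mem_support.2 hxs)
  have h1 : (τ ^ mp w x) x = x := by
    rw [hpow, Helper3.pow_mp_apply]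
  have h2 : τ ^ mp w x = 1 := (hcyc.pow_eq_one_iff' hx).2 h1
  have h3 : orderOf τ ∣ mp w x := orderOf_dvd_of_pow_eq_one h2
  rw [hcyc.orderOf] at h3
  exact (Nat.le_of_dvd (mp_pos w x) h3).trans (hmax x)

end Helper3

/-- If some odd permutation commutes with `u` or with `w`, a good `g` can be taken even
(`c g` if `c` commutes with `u`, using `good_conj`; `g c` if `c` commutes with `w`). -/
theorem parity_fix (p : ℕ) (u w : Perm α)
    (h : ¬ (Subgroup.centralizer {u} ≤ alternatingGroup α) ∨
      ¬ (Subgroup.centralizer {w} ≤ alternatingGroup α))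
    (hex : ∃ g : Perm α, Good p u (g * w * g⁻¹)) :
    ∃ g : Perm α, Perm.sign g = 1 ∧ Good p u (g * w * g⁻¹) := by
  obtain ⟨g, hg⟩ := hex
  rcases Int.units_eq_one_or (Perm.sign g) with hs | hs
  · exact ⟨g, hs, hg⟩
  · rcases h with h | h
    · obtain ⟨c, hcu, hcs⟩ := Helper3.exists_odd_of_not_le u h
      refine ⟨c * g, by rw [map_mul, hcs, hs]; decide, ?_⟩
      have := good_conj p u (g * w * g⁻¹) c hg
      have e1 : c * u * c⁻¹ = u := by rw [hcu, mul_inv_cancel_right]
      have e2 : c * (g * w * g⁻¹) * c⁻¹ = c * g * w * (c * g)⁻¹ := by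
        rw [mul_inv_rev]; group
      rw [e1, e2] at this
      exact this
    · obtain ⟨c, hcw, hcs⟩ := Helper3.exists_odd_of_not_le w h
      refine ⟨g * c, by rw [map_mul, hcs, hs]; decide, ?_⟩
      have e : g * c * w * (g * c)⁻¹ = g * w * g⁻¹ := by
        rw [mul_inv_rev, mul_assoc g c w, hcw]; group
      rw [e]
      exact hg

/-- If all orbits of the `p`-element `w` have size `≤ p` and the centralizer of `w` is inside the
alternating group then `#α ≤ p + 1`
(`Equiv.Perm.centralizer_le_alternating_iff`: the cycle type is nodup and `#α ≤ sum + 1`; every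
member of the cycle type is a power of `p`, `≥ 2` and `≤ p`, so is `p`; so the cycle type is `{p}`
or `0`). -/
theorem card_le_of_centralizer_le (p : ℕ) (hp : p.Prime) (w : Perm α)
    (hw : ∃ k : ℕ, orderOf w = p ^ k) (hmax : ∀ x, mp w x ≤ p)
    (hcent : Subgroup.centralizer {w} ≤ alternatingGroup α) : Fintype.card α ≤ p + 1 := by
  obtain ⟨-, hcard, hcount⟩ := Equiv.Perm.centralizer_le_alternating_iff.1 hcent
  obtain ⟨k, hk⟩ := hw
  have hall : ∀ c ∈ w.cycleType, c = p := by
    intro c hc
    have h1 : c ≤ p := Helper3.cycleType_le w p hmax hc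
    have h2 : 2 ≤ c := two_le_of_mem_cycleType hc
    have h3 : c ∣ p ^ k := hk ▸ dvd_of_mem_cycleType hc
    obtain ⟨i, -, rfl⟩ := (Nat.dvd_prime_pow hp).1 h3
    rcases Nat.lt_or_ge i 1 with hi | hi
    · have : i = 0 := by omega
      subst this
      simp at h2
    · rcases Nat.lt_or_ge 1 i with hi2 | hi2
      · exfalso
        have : p ^ 1 < p ^ i := Nat.pow_lt_pow_right hp.one_lt hi2
        rw [pow_one] at this
        omega
      · have : i = 1 := by omega
        subst this
        exact pow_one p
  have hrep : w.cycleType = Multiset.replicate (Multiset.card w.cycleType) p :=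
    Multiset.eq_replicate_card.2 hall
  have hc1 : Multiset.card w.cycleType ≤ 1 := by
    have := hcount p
    rw [hrep, Multiset.count_replicate_self] at this
    rw [hrep, Multiset.card_replicate]
    exact this
  have hsum : w.cycleType.sum ≤ p := by
    rw [hrep, Multiset.sum_replicate, smul_eq_mul]
    calc Multiset.card w.cycleType * p ≤ 1 * p := Nat.mul_le_mul_right p hc1
      _ = p := one_mul p
  omega

end Cfsg.Agent.Lib.Helper14.S2276
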