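import Cfsg.Agent.Lib.Helper14.S2276.CaseA
import Cfsg.Agent.Lib.Helper14.S2276.CaseB
import Cfsg.Agent.Lib.Helper14.S2276.CaseC
import Cfsg.Agent.Lib.Helper14.S2276.InvSubset
import Cfsg.Agent.Lib.Helper14.S2276.Parity
import Cfsg.Agent.Lib.Helper14.S2276.Alt

/-! # S2276: assembly (helper14). -/

set_option autoImplicit false

namespace Cfsg.Agent.Lib.Helper14.S2276

open Equiv Equiv.Perm

variable {α : Type*} [Fintype α] [DecidableEq α]

theorem ne_one_exists_moved (f : Perm α) (hf : f ≠ 1) : ∃ x, f x ≠ x := by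
  by_contra h
  apply hf
  ext x
  by_contra hx
  exact h ⟨x, hx⟩

theorem mp_max_ge_p (p : ℕ) (hp : p.Prime) (f : Perm α) (hf : f ≠ 1)
    (hf' : ∃ k : ℕ, orderOf f = p ^ k) (x : α) (hx : ∀ z, mp f z ≤ mp f x) :
    ∃ j : ℕ, j ≠ 0 ∧ mp f x = p ^ j := by
  obtain ⟨j, hj⟩ := mp_prime_pow p hp f hf' x
  refine ⟨j, ?_, hj⟩
  rintro rfl
  obtain ⟨z, hz⟩ := ne_one_exists_moved f hf
  have h1 : mp f z ≤ 1 := by simpa [hj] using hx z
  have h2 := mp_pos f z
  have h3 : mp f z = 1 := by omega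
  exact hz ((mp_eq_one_iff f z).1 h3)

theorem main_aux (p : ℕ) (hp : p.Prime) (hp3 : 3 ≤ p) (hn : 5 ≤ Fintype.card α)
    (u w : Perm α) (hu : u ≠ 1) (hw : w ≠ 1)
    (hu' : ∃ k : ℕ, orderOf u = p ^ k) (hw' : ∃ k : ℕ, orderOf w = p ^ k)
    (xu yw : α) (hxu : ∀ z, mp u z ≤ mp u xu) (hyw : ∀ z, mp w z ≤ mp w yw)
    (hab : mp w yw ≤ mp u xu) :
    ∃ g : Perm α, Perm.sign g = 1 ∧ Good p u (g * w * g⁻¹) := by
  have hp2 : p ≠ 2 := by omega
  have hpodd : Odd p := hp.odd_of_ne_two hp2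
  obtain ⟨i, hi0, hai⟩ := mp_max_ge_p p hp u hu hu' xu hxu
  obtain ⟨j, hj0, hbj⟩ := mp_max_ge_p p hp w hw hw' yw hyw
  have hbodd : Odd (mp w yw) := by rw [hbj]; exact hpodd.pow
  have haodd : Odd (mp u xu) := by rw [hai]; exact hpodd.pow
  have hpb : p ≤ mp w yw := by
    rw [hbj]; exact Nat.le_self_pow hj0 p
  obtain ⟨Su, hSu, hSucard, hxuS, htrans⟩ := exists_orbit_finset u xu
  have han : mp u xu ≤ Fintype.card α := by
    rw [← hSucard]; exact Finset.card_le_univ _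
  obtain ⟨Sw, hSw, hSwcard, hywS⟩ :=
    exists_invariant_subset p hp w hw' yw hyw (mp u xu) ⟨i, hai⟩ hab han
  have hcard : Su.card = Sw.card := by rw [hSucard, hSwcard]
  have hSwodd : Odd Sw.card := by rw [hSwcard]; exact haodd
  have h2 : 2 ≤ Sw.card := by rw [hSwcard]; omega
  -- one model
  have finish1 : ∀ σ : Perm α, FullOn σ Sw → Good p σ (restr w Sw) →
      ∃ g : Perm α, (∀ x, g x ∈ Su ↔ x ∈ Sw) ∧ (∀ x ∈ Sw, g (σ x) = u (g x)) ∧
        Good p u (g * w * g⁻¹) := by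
    intro σ hσ hgood
    obtain ⟨g, hg1, hg2⟩ := transport_exists_full u σ Su Sw hSu htrans hσ hcard h2
    exact ⟨g, hg1, hg2, transport_good p hp u w σ g Su Sw hSu hSw hσ.1 hg1 hg2 hgood⟩
  -- two models of opposite parity
  have finish2 : ∀ σ₁ σ₂ κ : Perm α, FullOn σ₁ Sw → Good p σ₁ (restr w Sw) →
      Good p σ₂ (restr w Sw) → σ₂ = κ * σ₁ * κ⁻¹ → Perm.sign κ = -1 →
      (∀ x, x ∉ Sw → κ x = x) → ∃ g : Perm α, Perm.sign g = 1 ∧ Good p u (g * w * g⁻¹) := by
    intro σ₁ σ₂ κ h1 hg1 hg2 hconj hκs hκ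
    obtain ⟨g₁, ha, hb, hc⟩ := finish1 σ₁ h1 hg1
    have hκmem : ∀ x, κ x ∈ Sw ↔ x ∈ Sw := by
      intro x
      by_cases hx : x ∈ Sw
      · simp only [hx, iff_true]
        by_contra hk
        have := hκ (κ x) hk
        have hxx : κ x = x := κ.injective this
        exact hk (by rw [hxx]; exact hx)
      · simp [hκ x hx, hx]
    have hκinv : ∀ x, κ⁻¹ x ∈ Sw ↔ x ∈ Sw := by
      intro x
      have := hκmem (κ⁻¹ x)
      simpa using this.symm
    have hσ₂supp : ∀ x, x ∉ Sw → σ₂ x = x := by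
      intro x hx
      have hx' : κ⁻¹ x ∉ Sw := fun h => hx ((hκinv x).1 h)
      rw [hconj]
      simp only [Perm.mul_apply]
      rw [h1.1 _ hx']
      simp
    have hd := transport_good p hp u w σ₂ (g₁ * κ⁻¹) Su Sw hSu hSw hσ₂supp
      (by intro x; simp only [Perm.mul_apply]; rw [ha, hκinv])
      (by
        intro x hx
        rw [hconj]
        simp only [Perm.mul_apply]
        have := hb _ ((hκinv x).2 hx)
        simpa using this) hg2
    rcases Int.units_eq_one_or (Perm.sign g₁) with h | h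
    · exact ⟨g₁, h, hc⟩
    · refine ⟨g₁ * κ⁻¹, ?_, hd⟩
      simp [h, hκs]
  by_cases h5 : 5 ≤ mp w yw
  · by_cases hc : Subgroup.centralizer {u} ≤ alternatingGroup α ∧
        Subgroup.centralizer {w} ≤ alternatingGroup α
    · by_cases h9 : 9 ≤ mp w yw
      · obtain ⟨σ₁, σ₂, κ, h1, hg1, hg2, hconj, hκs, hκ⟩ :=
          caseA_two p hp hp2 w hw' Sw hSw hSwodd yw hywS h9
        exact finish2 σ₁ σ₂ κ h1 hg1 hg2 hconj hκs hκ
      · have hj1 : j = 1 := by
          by_contra hj1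
          have hj2 : 2 ≤ j := by omega
          have : p ^ 2 ≤ p ^ j := Nat.pow_le_pow_right hp.pos hj2
          have : 3 * 3 ≤ p ^ 2 := by nlinarith
          omega
        have hbp : mp w yw = p := by rw [hbj, hj1, pow_one]
        have hcard6 : Fintype.card α ≤ p + 1 :=
          card_le_of_centralizer_le p hp w hw' (fun x => (hyw x).trans hbp.le) hc.2
        have hi1 : i = 1 := by
          by_contra hi1
          have hi2 : 2 ≤ i := by omega
          have h1 : p ^ 2 ≤ p ^ i := Nat.pow_le_pow_right hp.pos hi2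
          have h2 : p * 3 ≤ p ^ 2 := by nlinarith
          omega
        have hap : mp u xu = p := by rw [hai, hi1, pow_one]
        obtain ⟨σ₁, σ₂, κ, h1, hg1, hg2, hconj, hκs, hκ⟩ :=
          caseA_cycle p hp (by omega) w Sw hSw (hSwcard.trans hap) yw hywS hbp
        exact finish2 σ₁ σ₂ κ h1 hg1 hg2 hconj hκs hκ
    · obtain ⟨σ, hσ, hgood⟩ := caseA_one p hp hp2 w hw' Sw hSw hSwodd yw hywS h5
      obtain ⟨g, _, _, hg⟩ := finish1 σ hσ hgood
      exact parity_fix p u w (by tauto) ⟨g, hg⟩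
  · -- `mp w yw = 3`, `p = 3`
    have hb3 : mp w yw = 3 := by
      rcases hbodd with ⟨t, ht⟩
      omega
    have hp3' : p = 3 := by omega
    subst hp3'
    have hdvd3 : ∀ (f : Perm α) (x : α), (∃ k : ℕ, orderOf f = 3 ^ k) → mp f x ≤ 3 →
        mp f x ∣ 3 := by
      intro f x hf hx
      obtain ⟨t, ht⟩ := mp_prime_pow 3 hp f hf x
      rw [ht] at hx ⊢
      have : t ≤ 1 := by
        by_contra h
        have : 3 ^ 2 ≤ 3 ^ t := Nat.pow_le_pow_right (by norm_num) (by omega)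
        omega
      exact (Nat.pow_dvd_pow 3 this).trans (by norm_num)
    have hw3 : w ^ 3 = 1 :=
      pow_eq_one_of_mp_dvd w 3 (fun x => hdvd3 w x hw' ((hyw x).trans hb3.le))
    have hncent : ¬ Subgroup.centralizer {w} ≤ alternatingGroup α := by
      intro hcent
      have := card_le_of_centralizer_le 3 hp w hw'
        (fun x => (hyw x).trans hb3.le) hcent
      omega
    suffices h : ∃ g : Perm α, Good 3 u (g * w * g⁻¹) from
      parity_fix 3 u w (Or.inr hncent) h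
    by_cases ha3 : mp u xu = 3
    · have hu3 : u ^ 3 = 1 :=
        pow_eq_one_of_mp_dvd u 3 (fun x => hdvd3 u x hu' ((hxu x).trans ha3.le))
      exact caseC u w hn hu3 hw3 hu hw
    · have ha9 : 9 ≤ mp u xu := by
        have hi2 : 2 ≤ i := by
          by_contra h
          have : i = 1 := by omega
          rw [this, pow_one] at hai
          exact ha3 hai
        rw [hai]
        calc 9 = 3 ^ 2 := by norm_num
          _ ≤ 3 ^ i := Nat.pow_le_pow_right (by norm_num) hi2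
      have hwy : w yw ≠ yw := by
        intro h
        have := (mp_eq_one_iff w yw).2 h
        omega
      rcases caseB_dichotomy w hw3 Sw hSw (by omega) with
        ⟨q₁, q₂, hq₁, hq₂, hq, hwq₁, hwq₂⟩ |
        ⟨x, y, z, hx, hy, hz, hwx, hwy', hwz, hxy, hxz, hyz⟩
      · obtain ⟨σ, hσ, hgood⟩ :=
          caseB1 w hw3 Sw hSw hSwodd yw q₁ q₂ hywS hwy hq₁ hq₂ hq hwq₁ hwq₂
        obtain ⟨g, _, _, hg⟩ := finish1 σ hσ hgood
        exact ⟨g, hg⟩
      · obtain ⟨σ, hσ, hgood⟩ :=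
          caseB2 w hw3 Sw hSw hSwodd x y z hx hy hz hwx hwy' hwz hxy hxz hyz
        obtain ⟨g, _, _, hg⟩ := finish1 σ hσ hgood
        exact ⟨g, hg⟩

theorem main_perm (p : ℕ) (hp : p.Prime) (hp3 : 3 ≤ p) (hn : 5 ≤ Fintype.card α)
    (u w : Perm α) (hu : u ≠ 1) (hw : w ≠ 1)
    (hu' : ∃ k : ℕ, orderOf u = p ^ k) (hw' : ∃ k : ℕ, orderOf w = p ^ k) :
    ∃ g : Perm α, Perm.sign g = 1 ∧ Good p u (g * w * g⁻¹) := by
  have hne : Nonempty α := by
    rw [← Fintype.card_pos_iff]; omega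
  obtain ⟨xu, hxu⟩ := Finite.exists_max (fun z => mp u z)
  obtain ⟨yw, hyw⟩ := Finite.exists_max (fun z => mp w z)
  rcases le_total (mp w yw) (mp u xu) with hab | hab
  · exact main_aux p hp hp3 hn u w hu hw hu' hw' xu yw hxu hyw hab
  · obtain ⟨h, hh1, hh⟩ := main_aux p hp hp3 hn w u hw hu hw' hu' yw xu hyw hxu hab
    refine ⟨h⁻¹, by simp [hh1], ?_⟩
    have h1 := good_conj p _ _ h⁻¹ hh
    have h2 := good_swap p _ _ h1
    simpa [mul_assoc] using h2

end Cfsg.Agent.Lib.Helper14.S2276
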