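import Cfsg.Agent.Lib.Helper14.S2276.Basics

/-! # S2276 farm, piece [M]: the merge lemma.

`π` is the identity outside `S`; every `π`-orbit inside `S` contains a point outside `F`.
Then there is `lam` (the identity or a single cycle, through one point outside `F` of each
`π`-orbit in `S`) fixing `F` pointwise and the complement of `S`, with `lam * π` transitive on `S`.

Proof idea: choose a transversal `T ⊆ S \ F` of the `π`-orbits in `S`; if `#T ≤ 1` take `lam = 1`,
else `lam = (T.toList).formPerm`.  For `t ∈ T` with orbit size `s`: `(lam*π)^i t = π^i t` for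
`i < s` (as `π^i t ∉ T` for `0 < i < s`) and `(lam*π)^s t = lam t`; so the `lam*π`-orbit of `t`
contains the `π`-orbit of `t` and `lam t`, hence everything. -/

set_option autoImplicit false

namespace Cfsg.Agent.Lib.Helper14.S2276

open Equiv Equiv.Perm

variable {α : Type*} [Fintype α] [DecidableEq α]

namespace Helper9

omit [Fintype α] [DecidableEq α] in
/-- as long as the `π`-orbit of `t` avoids `T`, the powers of `lam * π` and `π` agree at `t` -/
theorem pow_eq_of_avoid (π lam : Perm α) (T : Finset α) (hlam : ∀ x, x ∉ T → lam x = x) (t : α) :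
    ∀ n : ℕ, (∀ j, 0 < j → j ≤ n → (π ^ j) t ∉ T) → ((lam * π) ^ n) t = (π ^ n) t := by
  intro n
  induction n with
  | zero => intro _; simp
  | succ n ih =>
    intro h
    have h1 := ih (fun j hj hjn => h j hj (Nat.le_succ_of_le hjn))
    rw [pow_succ', Perm.mul_apply, h1, Perm.mul_apply, ← Perm.mul_apply π, ← pow_succ']
    exact hlam _ (h (n + 1) (Nat.succ_pos n) le_rfl)

/-- the merge lemma for a given transversal -/
theorem merge_of_transversal (π lam : Perm α) (S T : Finset α)
    (hπ : ∀ x, x ∉ S → π x = x) (hTS : T ⊆ S)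
    (hlam : ∀ x, x ∉ T → lam x = x)
    (hT1 : ∀ x ∈ S, ∃ t ∈ T, π.SameCycle t x)
    (hT2 : ∀ t ∈ T, ∀ t' ∈ T, π.SameCycle t t' → t = t')
    (hcon : ∀ t ∈ T, ∀ t' ∈ T, ∃ k : ℕ, (lam ^ k) t = t')
    (hinv : ∀ t ∈ T, lam t ∈ T) :
    FullOn (lam * π) S := by
  refine ⟨fun x hx => ?_, ?_⟩
  · rw [Perm.mul_apply, hπ x hx]
    exact hlam x (fun h => hx (hTS h))
  -- every point of `S` is in the `lam * π`-cycle of its representative
  have hK3 : ∀ x ∈ S, ∃ t ∈ T, (lam * π).SameCycle t x := by
    intro x hx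
    obtain ⟨t, ht, hs⟩ := hT1 x hx
    refine ⟨t, ht, ?_⟩
    obtain ⟨i, hi⟩ := hs.exists_nat_pow_eq
    -- minimal such `i`
    classical
    have hex : ∃ i : ℕ, (π ^ i) t = x := ⟨i, hi⟩
    set m := Nat.find hex with hm
    have hm1 : (π ^ m) t = x := Nat.find_spec hex
    have hm2 : ∀ j, j < m → (π ^ j) t ≠ x := fun j hj => Nat.find_min hex hj
    have hav : ∀ j, 0 < j → j ≤ m → (π ^ j) t ∉ T := by
      intro j hj hjm hmem
      have hsc : π.SameCycle t ((π ^ j) t) := (sameCycle_pow_right).2 (SameCycle.refl _ _)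
      have heq := hT2 t ht _ hmem hsc
      -- then `π ^ (m - j) t = x`
      have : (π ^ (m - j)) t = x := by
        have h1 : (π ^ m) t = (π ^ (m - j)) ((π ^ j) t) := by
          rw [← Perm.mul_apply, ← pow_add, Nat.sub_add_cancel hjm]
        rw [← heq] at h1
        rw [← h1, hm1]
      exact hm2 (m - j) (by omega) this
    have := pow_eq_of_avoid π lam T hlam t m hav
    rw [hm1] at this
    exact ⟨m, by rw [zpow_natCast]; exact this⟩
  -- `t` and `lam t` are in the same cycle
  have hK2 : ∀ t ∈ T, (lam * π).SameCycle t (lam t) := by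
    intro t ht
    classical
    have hex : ∃ m : ℕ, 0 < m ∧ (π ^ m) t = t :=
      ⟨orderOf π, orderOf_pos π, by rw [pow_orderOf_eq_one]; rfl⟩
    set m := Nat.find hex with hm
    obtain ⟨hm0, hm1⟩ := Nat.find_spec hex
    have hm2 : ∀ j, j < m → ¬ (0 < j ∧ (π ^ j) t = t) := fun j hj => Nat.find_min hex hj
    have hav : ∀ j, 0 < j → j ≤ m - 1 → (π ^ j) t ∉ T := by
      intro j hj hjm hmem
      have hsc : π.SameCycle t ((π ^ j) t) := (sameCycle_pow_right).2 (SameCycle.refl _ _)
      have heq := hT2 t ht _ hmem hsc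
      exact hm2 j (by omega) ⟨hj, heq.symm⟩
    have h1 := pow_eq_of_avoid π lam T hlam t (m - 1) hav
    have h2 : ((lam * π) ^ m) t = lam t := by
      have hmm : m = (m - 1) + 1 := by omega
      rw [hmm, pow_succ', Perm.mul_apply, h1, Perm.mul_apply, ← Perm.mul_apply π, ← pow_succ',
        ← hmm, hm1]
    exact ⟨m, by rw [zpow_natCast]; exact h2⟩
  -- all of `T` is in one cycle
  have hTT : ∀ t ∈ T, ∀ k : ℕ, (lam * π).SameCycle t ((lam ^ k) t) ∧ (lam ^ k) t ∈ T := by
    intro t ht k
    induction k with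
    | zero => exact ⟨by simpa using SameCycle.refl _ _, by simpa using ht⟩
    | succ k ih =>
      rw [pow_succ', Perm.mul_apply]
      exact ⟨ih.1.trans (hK2 _ ih.2), hinv _ ih.2⟩
  intro x hx y hy
  obtain ⟨t, ht, h1⟩ := hK3 x hx
  obtain ⟨t', ht', h2⟩ := hK3 y hy
  obtain ⟨k, hk⟩ := hcon t ht t' ht'
  have h3 := (hTT t ht k).1
  rw [hk] at h3
  exact h1.symm.trans (h3.trans h2)

end Helper9

theorem merge (π : Perm α) (S F : Finset α) (hπ : ∀ x, x ∉ S → π x = x)
    (hF : ∀ x ∈ S, ∃ k : ℕ, (π ^ k) x ∉ F) :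
    ∃ lam : Perm α, (lam = 1 ∨ lam.IsCycle) ∧ (∀ x ∈ F, lam x = x) ∧
      (∀ x, x ∉ S → lam x = x) ∧ FullOn (lam * π) S := by
  classical
  -- `S` is `π`-invariant
  have hS1 : ∀ x ∈ S, π x ∈ S := by
    intro x hx
    by_contra h
    have h2 : π x = x := π.injective (hπ _ h)
    rw [h2] at h
    exact h hx
  have hSk : ∀ k : ℕ, ∀ x ∈ S, (π ^ k) x ∈ S := by
    intro k
    induction k with
    | zero => intro x hx; simpa using hx
    | succ k ih =>
      intro x hx
      rw [pow_succ', Perm.mul_apply]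
      exact hS1 _ (ih x hx)
  -- representatives of the orbits
  let st : Setoid α := SameCycle.setoid π
  have hex : ∀ x ∈ S, ∃ y, Quotient.mk st y = Quotient.mk st x ∧ y ∈ S ∧ y ∉ F := by
    intro x hx
    obtain ⟨k, hk⟩ := hF x hx
    refine ⟨(π ^ k) x, Quotient.sound ?_, hSk k x hx, hk⟩
    show π.SameCycle ((π ^ k) x) x
    exact ((sameCycle_pow_right).2 (SameCycle.refl _ _)).symm
  let rep : Quotient st → α := fun q =>
    if h : ∃ y, Quotient.mk st y = q ∧ y ∈ S ∧ y ∉ F then h.choose else q.out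
  have hrep : ∀ x ∈ S, Quotient.mk st (rep (Quotient.mk st x)) = Quotient.mk st x ∧
      rep (Quotient.mk st x) ∈ S ∧ rep (Quotient.mk st x) ∉ F := by
    intro x hx
    have h := hex x hx
    simp only [rep, dif_pos h]
    exact h.choose_spec
  let T : Finset α := S.image (fun x => rep (Quotient.mk st x))
  have hTS : T ⊆ S := by
    intro t ht
    obtain ⟨x, hx, rfl⟩ := Finset.mem_image.1 ht
    exact (hrep x hx).2.1
  have hTF : ∀ t ∈ T, t ∉ F := by
    intro t ht
    obtain ⟨x, hx, rfl⟩ := Finset.mem_image.1 ht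
    exact (hrep x hx).2.2
  have hT1 : ∀ x ∈ S, ∃ t ∈ T, π.SameCycle t x := by
    intro x hx
    refine ⟨rep (Quotient.mk st x), Finset.mem_image.2 ⟨x, hx, rfl⟩, ?_⟩
    exact Quotient.exact (hrep x hx).1
  have hT2 : ∀ t ∈ T, ∀ t' ∈ T, π.SameCycle t t' → t = t' := by
    intro t ht t' ht' hs
    obtain ⟨x, hx, rfl⟩ := Finset.mem_image.1 ht
    obtain ⟨x', hx', rfl⟩ := Finset.mem_image.1 ht'
    have h1 : Quotient.mk st x = Quotient.mk st x' := by
      rw [← (hrep x hx).1, ← (hrep x' hx').1]
      exact Quotient.sound hs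
    show rep (Quotient.mk st x) = rep (Quotient.mk st x')
    rw [h1]
  by_cases hcard : T.card ≤ 1
  · -- `lam = 1`
    refine ⟨1, Or.inl rfl, fun x _ => rfl, fun x _ => rfl, ?_⟩
    refine Helper9.merge_of_transversal π 1 S T hπ hTS (fun x _ => rfl) hT1 hT2 ?_
      (fun t ht => ht)
    intro t ht t' ht'
    exact ⟨0, Finset.card_le_one.1 hcard t ht t' ht'⟩
  · -- `lam` a cycle through `T`
    push Not at hcard
    have hnd : T.toList.Nodup := Finset.nodup_toList T
    have hlen : 2 ≤ T.toList.length := by rw [Finset.length_toList]; omega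
    have hcyc : (T.toList.formPerm).IsCycle := List.isCycle_formPerm hnd hlen
    have hsupp : (T.toList.formPerm).support = T := by
      rw [List.support_formPerm_of_nodup _ hnd, Finset.toList_toFinset]
      intro x hx
      rw [hx] at hlen
      simp at hlen
    have hlamfix : ∀ x, x ∉ T → T.toList.formPerm x = x := by
      intro x hx
      exact List.formPerm_apply_of_notMem (by simpa using hx)
    refine ⟨T.toList.formPerm, Or.inr hcyc, fun x hx => hlamfix x (fun h => hTF x h hx),
      fun x hx => hlamfix x (fun h => hx (hTS h)), ?_⟩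
    refine Helper9.merge_of_transversal π _ S T hπ hTS hlamfix hT1 hT2 ?_ ?_
    · intro t ht t' ht'
      have h1 : T.toList.formPerm t ≠ t := by
        rw [← Perm.mem_support, hsupp]; exact ht
      have h2 : T.toList.formPerm t' ≠ t' := by
        rw [← Perm.mem_support, hsupp]; exact ht'
      exact (hcyc.sameCycle h1 h2).exists_nat_pow_eq
    · intro t ht
      have h1 : t ∈ (T.toList.formPerm).support := by rw [hsupp]; exact ht
      have h2 := Perm.apply_mem_support.2 h1
      rw [hsupp] at h2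
      exact h2

end Cfsg.Agent.Lib.Helper14.S2276
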