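import Cfsg.Agent.Lib.Helper14.S2276.Basics

/-! # (piece [T2] of this file)  # S2276 farm, pieces [T1], [T2]: transport of a model pair on the block `Sw` to `(u, g w g⁻¹)`. -/

set_option autoImplicit false

namespace Cfsg.Agent.Lib.Helper14.S2276

open Equiv Equiv.Perm

variable {α : Type*} [Fintype α] [DecidableEq α]

namespace Helper6

/-- `g w g⁻¹` leaves `g(Sw) = Su` invariant. -/
theorem inv_conj (w g : Perm α) (Su Sw : Finset α) (hSw : Inv w Sw)
    (hg : ∀ x, g x ∈ Su ↔ x ∈ Sw) : Inv (g * w * g⁻¹) Su := by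
  intro x
  have h1 : (g * w * g⁻¹) x = g (w (g⁻¹ x)) := by simp [Perm.mul_apply]
  rw [h1, hg, hSw, ← hg]
  simp

/-- `restr u Su = g σ g⁻¹`. -/
theorem restr_eq_conj (u σ g : Perm α) (Su Sw : Finset α) (hSu : Inv u Su)
    (hσ : ∀ x, x ∉ Sw → σ x = x)
    (hg : ∀ x, g x ∈ Su ↔ x ∈ Sw) (hgσ : ∀ x ∈ Sw, g (σ x) = u (g x)) :
    restr u Su = g * σ * g⁻¹ := by
  ext x
  have h1 : (g * σ * g⁻¹) x = g (σ (g⁻¹ x)) := by simp [Perm.mul_apply]
  rw [h1]
  by_cases hx : x ∈ Su
  · have hy : g⁻¹ x ∈ Sw := by
      rw [← hg]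
      simpa using hx
    rw [restr_apply_mem u Su hSu x hx, hgσ _ hy]
    simp
  · have hy : g⁻¹ x ∉ Sw := by
      rw [← hg]
      simpa using hx
    rw [restr_apply_not_mem u Su x hx, hσ _ hy]
    simp

end Helper6

/-- [T2] With such a `g`, goodness of the model `(σ, restr w Sw)` gives goodness of
`(u, g w g⁻¹)`: `w' = g w g⁻¹` leaves `Su` invariant, `restr u Su = g σ g⁻¹`,
`restr w' Su = g (restr w Sw) g⁻¹`, and `f ↦ restr f Su` is a homomorphism on the subgroup of
permutations leaving `Su` invariant (orders can only drop, images of solvable are solvable).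
(`p` has to be prime: a divisor of `p ^ k` must again be a power of `p`.) -/
theorem transport_good (p : ℕ) (hp : p.Prime) (u w σ g : Perm α) (Su Sw : Finset α)
    (hSu : Inv u Su) (hSw : Inv w Sw) (hσ : ∀ x, x ∉ Sw → σ x = x)
    (hg : ∀ x, g x ∈ Su ↔ x ∈ Sw) (hgσ : ∀ x ∈ Sw, g (σ x) = u (g x))
    (hgood : Good p σ (restr w Sw)) : Good p u (g * w * g⁻¹) := by
  have hw' : Inv (g * w * g⁻¹) Su := Helper6.inv_conj w g Su Sw hSw hg
  have hru : restr u Su = g * σ * g⁻¹ := Helper6.restr_eq_conj u σ g Su Sw hSu hσ hg hgσ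
  have hrw : restr (g * w * g⁻¹) Su = g * restr w Sw * g⁻¹ := restr_conj w g Sw Su hSw hg
  -- the good pair, conjugated by `g`
  have hgc : Good p (restr u Su) (restr (g * w * g⁻¹) Su) := by
    rw [hru, hrw]
    exact good_conj p σ (restr w Sw) g hgood
  obtain ⟨h1, h2⟩ := hgc
  refine ⟨?_, ?_⟩
  · rintro ⟨k, hk⟩
    apply h1
    have hmul : restr (u * (g * w * g⁻¹)) Su = restr u Su * restr (g * w * g⁻¹) Su :=
      restr_mul u (g * w * g⁻¹) Su hSu hw'
    have hinv : Inv (u * (g * w * g⁻¹)) Su := by
      intro x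
      have : (u * (g * w * g⁻¹)) x = u ((g * w * g⁻¹) x) := rfl
      rw [this, hSu, hw']
    have hdvd := orderOf_restr_dvd (u * (g * w * g⁻¹)) Su hinv
    rw [hk, hmul] at hdvd
    obtain ⟨j, -, hj⟩ := (Nat.dvd_prime_pow hp).1 hdvd
    exact ⟨j, hj⟩
  · intro hs
    apply h2
    -- the stabilizer of `Su` and the restriction homomorphism
    let K : Subgroup (Perm α) :=
      { carrier := {f | Inv f Su}
        mul_mem' := by
          intro a b ha hb x
          have : (a * b) x = a (b x) := rfl
          rw [this, ha (b x), hb x]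
        one_mem' := by
          intro x
          simp
        inv_mem' := by
          intro a ha x
          have := ha (a⁻¹ x)
          simpa using this.symm }
    have hle : Subgroup.closure ({u, g * w * g⁻¹} : Set (Perm α)) ≤ K := by
      rw [Subgroup.closure_le]
      intro z hz
      rcases hz with rfl | hz
      · exact hSu
      · rw [Set.mem_singleton_iff] at hz
        subst hz
        exact hw'
    let φ : K →* Perm α :=
      { toFun := fun f => restr (f : Perm α) Su
        map_one' := restr_one Su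
        map_mul' := fun a b => restr_mul (a : Perm α) (b : Perm α) Su a.2 b.2 }
    -- the hom from `⟨u, w'⟩` to `Perm α`
    let ψ : Subgroup.closure ({u, g * w * g⁻¹} : Set (Perm α)) →* Perm α :=
      φ.comp (Subgroup.inclusion hle)
    have hrange : Subgroup.closure ({restr u Su, restr (g * w * g⁻¹) Su} : Set (Perm α)) ≤
        ψ.range := by
      rw [Subgroup.closure_le]
      intro z hz
      rcases hz with rfl | hz
      · exact ⟨⟨u, Subgroup.subset_closure (by left; rfl)⟩, rfl⟩
      · rw [Set.mem_singleton_iff] at hz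
        subst hz
        exact ⟨⟨g * w * g⁻¹, Subgroup.subset_closure (by right; rfl)⟩, rfl⟩
    have := hs
    have hsr : Group.IsSolvable ψ.range :=
      Group.isSolvable_of_surjective (f := ψ.rangeRestrict) ψ.rangeRestrict_surjective
    exact Group.isSolvable_of_isSolvable_injective (Subgroup.inclusion_injective hrange)

end Cfsg.Agent.Lib.Helper14.S2276
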