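import Cfsg.Agent.Lib.Helper14.S2276.TransportT1
import Cfsg.Agent.Lib.Helper14.S2276.TransportT2

/-! # S2276 farm: [T1] + [T2]. -/
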