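import Cfsg.Agent.Lib.Helper14.S2276.Basics

/-! # (piece [T1] of this file)  # S2276 farm, pieces [T1], [T2]: transport of a model pair on the block `Sw` to `(u, g w g⁻¹)`. -/

set_option autoImplicit false
set_option linter.unusedSectionVars false

namespace Cfsg.Agent.Lib.Helper14.S2276

open Equiv Equiv.Perm

variable {α : Type*} [Fintype α] [DecidableEq α]

namespace Helper11T1

theorem app_inv (f : Perm α) (x : α) : f (f⁻¹ x) = x := by simp

theorem inv_app (f : Perm α) (x : α) : f⁻¹ (f x) = x := by simp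

theorem inv_pow {w : Perm α} {S : Finset α} (h : Inv w S) (n : ℕ) : Inv (w ^ n) S := by
  induction n with
  | zero => intro x; simp
  | succ n ih =>
    intro x
    rw [pow_succ, Perm.mul_apply, ih (w x), h x]

/-- a permutation that is the identity outside `S` leaves `S` invariant -/
theorem inv_of_fix (σ : Perm α) (S : Finset α) (hσ : ∀ x, x ∉ S → σ x = x) : Inv σ S := by
  intro x
  constructor
  · intro h
    by_contra hx
    rw [hσ x hx] at h
    exact hx h
  · intro hx
    by_contra h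
    have h1 : σ (σ x) = σ x := hσ _ h
    have h2 : σ x = x := σ.injective h1
    rw [h2] at h
    exact h hx

theorem cycleType_restr (u : Perm α) (S : Finset α) (h : Inv u S) :
    (restr u S).cycleType = (u.subtypePerm (p := fun x => x ∈ S) h).cycleType := by
  have h' : ∀ x, u x ∈ S ↔ x ∈ S := h
  unfold restr
  rw [dif_pos h']
  exact cycleType_ofSubtype

/-- the core: a conjugator inside `Perm ↥Su` -/
theorem transport_aux (u σ' : Perm α) (Su : Finset α) (hSu : Inv u Su)
    (hσ' : ∀ x, x ∉ Su → σ' x = x) (hct : σ'.cycleType = (restr u Su).cycleType) :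
    ∃ K : Perm α, (∀ y, K y ∈ Su ↔ y ∈ Su) ∧ ∀ y ∈ Su, K (σ' y) = u (K y) := by
  have hInv' : Inv σ' Su := inv_of_fix σ' Su hσ'
  have h1 : σ' = ofSubtype (σ'.subtypePerm (p := fun x => x ∈ Su) hInv') :=
    (ofSubtype_subtypePerm (p := fun x => x ∈ Su) hInv' (fun x hx => by
      by_contra h; exact hx (hσ' x h))).symm
  have h2 : (σ'.subtypePerm (p := fun x => x ∈ Su) hInv').cycleType
      = (u.subtypePerm (p := fun x => x ∈ Su) hSu).cycleType := by
    rw [← cycleType_restr u Su hSu, ← hct]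
    conv_rhs => rw [h1]
    exact cycleType_ofSubtype.symm
  obtain ⟨k, hk⟩ := isConj_iff.mp (isConj_iff_cycleType_eq.mpr h2)
  refine ⟨ofSubtype k, ?_, ?_⟩
  · intro y
    by_cases hy : y ∈ Su
    · rw [ofSubtype_apply_of_mem (p := fun x => x ∈ Su) k hy]
      exact ⟨fun _ => hy, fun _ => (k ⟨y, hy⟩).2⟩
    · rw [ofSubtype_apply_of_not_mem (p := fun x => x ∈ Su) k hy]
  · intro y hy
    have hσy : σ' y ∈ Su := (hInv' y).mpr hy
    have e1 : σ' y = ((σ'.subtypePerm (p := fun x => x ∈ Su) hInv') ⟨y, hy⟩ : α) := rfl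
    rw [ofSubtype_apply_of_mem (p := fun x => x ∈ Su) k hσy,
      ofSubtype_apply_of_mem (p := fun x => x ∈ Su) k hy]
    have e2 : k * σ'.subtypePerm (p := fun x => x ∈ Su) hInv'
        = u.subtypePerm (p := fun x => x ∈ Su) hSu * k := by
      rw [← hk]; group
    have e3 := congrArg (fun f : Perm {x // x ∈ Su} => (f ⟨y, hy⟩ : α)) e2
    simp only [Perm.mul_apply] at e3
    exact e3

end Helper11T1

/-- [T1] `σ` (supported in `Sw`) and `u` restricted to `Su` have the same cycle type and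
`#Su = #Sw`: there is `g` carrying `Sw` onto `Su` and intertwining `σ` on `Sw` with `u` on `Su`.
(Conjugate `σ` to `restr u Su` by `g₀`; `g₀` maps `supp σ` onto `supp (restr u Su) ⊆ Su`; correct
`g₀` on the fixed points of `σ` in `Sw` by a permutation fixing `supp (restr u Su)` pointwise.) -/
theorem transport_exists (u σ : Perm α) (Su Sw : Finset α) (hSu : Inv u Su)
    (hσ : ∀ x, x ∉ Sw → σ x = x) (hcard : Su.card = Sw.card)
    (hct : σ.cycleType = (restr u Su).cycleType) :
    ∃ g : Perm α, (∀ x, g x ∈ Su ↔ x ∈ Sw) ∧ ∀ x ∈ Sw, g (σ x) = u (g x) := by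
  -- an arbitrary bijection `Sw → Su`, extended to a permutation `E`
  have hc : Fintype.card {x // x ∈ Sw} = Fintype.card {x // x ∈ Su} := by
    rw [Fintype.card_coe, Fintype.card_coe, hcard]
  let ε : {x // x ∈ Sw} ≃ {x // x ∈ Su} := Fintype.equivOfCardEq hc
  let E : Perm α := ε.extendSubtype
  have hE : ∀ x, E x ∈ Su ↔ x ∈ Sw := by
    intro x
    constructor
    · intro h
      by_contra hx
      exact ε.extendSubtype_not_mem x hx h
    · intro hx
      exact ε.extendSubtype_mem x hx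
  have hσ' : ∀ y, y ∉ Su → (E * σ * E⁻¹) y = y := by
    intro y hy
    have h1 : E⁻¹ y ∉ Sw := by
      intro h
      have := (hE (E⁻¹ y)).mpr h
      rw [Helper11T1.app_inv] at this
      exact hy this
    rw [Perm.mul_apply, Perm.mul_apply, hσ _ h1, Helper11T1.app_inv]
  obtain ⟨K, hK1, hK2⟩ := Helper11T1.transport_aux u (E * σ * E⁻¹) Su hSu hσ'
    (by rw [cycleType_conj]; exact hct)
  refine ⟨K * E, ?_, ?_⟩
  · intro x
    rw [Perm.mul_apply, hK1, hE]
  · intro x hx
    have h1 := hK2 (E x) ((hE x).mpr hx)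
    rw [Perm.mul_apply, Perm.mul_apply, Helper11T1.inv_app] at h1
    rw [Perm.mul_apply, Perm.mul_apply]
    exact h1

/-- [T1'] the same for full cycles. -/
theorem transport_exists_full (u σ : Perm α) (Su Sw : Finset α) (hSu : Inv u Su)
    (hu : ∀ y ∈ Su, ∀ z ∈ Su, u.SameCycle y z) (hσ : FullOn σ Sw)
    (hcard : Su.card = Sw.card) (h2 : 2 ≤ Sw.card) :
    ∃ g : Perm α, (∀ x, g x ∈ Su ↔ x ∈ Sw) ∧ ∀ x ∈ Sw, g (σ x) = u (g x) := by
  apply transport_exists u σ Su Sw hSu hσ.1 hcard
  obtain ⟨hc1, hs1⟩ := FullOn.isCycle σ Sw hσ h2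
  have hfull : FullOn (restr u Su) Su := by
    refine ⟨fun x hx => restr_apply_not_mem u Su x hx, ?_⟩
    intro y hy z hz
    obtain ⟨i, hi⟩ := (hu y hy z hz).exists_nat_pow_eq
    refine ⟨(i : ℤ), ?_⟩
    rw [zpow_natCast, restr_pow u Su hSu i,
      restr_apply_mem (u ^ i) Su (Helper11T1.inv_pow hSu i) y hy]
    exact hi
  obtain ⟨hc2, hs2⟩ := FullOn.isCycle (restr u Su) Su hfull (by rw [hcard]; exact h2)
  rw [hc1.cycleType, hc2.cycleType, hs1, hs2, hcard]

end Cfsg.Agent.Lib.Helper14.S2276
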